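import Mathlib

/-!
A certificate checker for coset enumerations.

A log is a numbered list of facts `(u, x, v)`, each saying `q v = σ x (q u)` for points
`q u, q v` of a set acted on by the letters.  The first facts define the points; every later
fact closes a cycle of earlier facts spelling a word known to fix its base point.
-/

namespace Cfsg.Agent.CosetCert

/-- Binary search tree of packed natural numbers. -/
inductive Store where
  | leaf (v : Nat)
  | node (m : Nat) (l r : Store)

/-- Lookup in a `Store`, written with recursors so that the kernel evaluates it quickly. -/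
noncomputable def Store.get (s : Store) (i : Nat) : Nat :=
  Store.rec (motive := fun _ => Nat) (fun v => v)
    (fun m _ _ gl gr => Bool.rec (motive := fun _ => Nat) gr gl (Nat.blt i m)) s

/-- Evaluate `n` to a literal before passing it on. -/
noncomputable def force {β : Sort*} (n : Nat) (k : Nat → β) : β :=
  Nat.rec (k 0) (fun m _ => k (Nat.succ m)) n

@[simp] theorem force_eq {β : Sort*} (n : Nat) (k : Nat → β) : force n k = k n := by
  cases n <;> rfl

/-- `gate b x` is `b && x`, and does not evaluate `x` when `b` fails. -/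
noncomputable def gate (b x : Bool) : Bool := Bool.rec (motive := fun _ => Bool) false x b

@[simp] theorem gate_eq (b x : Bool) : gate b x = (b && x) := by cases b <;> rfl

def fu (f : Nat) : Nat := Nat.mod f 1048576
def fv (f : Nat) : Nat := Nat.mod (Nat.div f 1048576) 1048576
def fx (f : Nat) : Nat := Nat.div f 1099511627776

/-- A word as a number: digits `x + 1` in base 32, first letter lowest. -/
noncomputable def pack (w : List Nat) : Nat :=
  List.rec 0 (fun x _ ih => Nat.add (Nat.succ x) (Nat.mul 32 ih)) w

/-- `sel b x y` is `x` if `b` and `y` otherwise. -/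
noncomputable def sel (b : Bool) (x y : Nat) : Nat := Bool.rec (motive := fun _ => Nat) y x b

/-- Remove the letter `x` from the front of a packed word; `K` is the empty letter.
The result is shifted by one, `0` meaning failure. -/
noncomputable def eat (K x w : Nat) : Nat :=
  sel (Nat.beq x K) (Nat.succ w)
    (sel (Nat.beq (Nat.mod w 32) (Nat.succ x)) (Nat.succ (Nat.div w 32)) 0)

/-- The state after a cycle part: end point and remaining word, shifted by one. -/
noncomputable def stop (cur w : Nat) : Nat := Nat.succ (Nat.add (Nat.mul w 1048576) cur)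

/-- One item going from `a` along `x` to `b`; `next` continues from `b`. -/
noncomputable def hop (K a x b cur w : Nat) (next : Nat → Nat → Nat) : Nat :=
  sel (Nat.beq cur a) (force (eat K x w) fun r => sel (Nat.beq r 0) 0 (force b fun c => next c (Nat.pred r))) 0

/-- The fact numbered `it / 2`, read in the direction `it % 2`. -/
noncomputable def item (F iv : Nat → Nat) (K i it cur w : Nat) (next : Nat → Nat → Nat) : Nat :=
  sel (Nat.blt (Nat.div it 2) i)
    (force (F (Nat.div it 2)) fun f =>
      sel (Nat.beq (Nat.mod it 2) 0) (hop K (fu f) (fx f) (fv f) cur w next)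
        (hop K (fv f) (iv (fx f)) (fu f) cur w next))
    0

/-- Follow `n` items packed in `j`, using facts numbered below `i` only. -/
noncomputable def walk (F : Nat → Nat) (iv : Nat → Nat) (K i : Nat) :
    Nat → Nat → Nat → Nat → Nat :=
  fun n => Nat.rec (fun _ cur w => stop cur w)
    (fun _ ih j cur w => force (Nat.mod j 4194304) fun it => force (Nat.div j 4194304) fun j' =>
      item F iv K i it cur w (ih j')) n

/-- The second half of `checkFact`. -/
noncomputable def closeCycle (F iv : Nat → Nat) (K i na items c f r : Nat) : Bool :=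
  gate (Nat.ble 1 r) (force (Nat.pred r) fun s =>
    gate (Nat.beq (Nat.mod s 1048576) (fu f))
      (force (eat K (fx f) (Nat.div s 1048576)) fun r₂ => gate (Nat.ble 1 r₂)
        (force (fv f) fun v =>
          Nat.beq (walk F iv K i na items v (Nat.pred r₂)) (stop c 0))))

/-- Check the justification of fact `i`.  The words numbered below `nR` fix every point,
the others fix the point `0`. -/
noncomputable def checkFact (F J PW : Nat → Nat) (iv : Nat → Nat) (K nR nW : Nat)
    (i : Nat) : Bool :=
  force (F i) fun f => force (J i) fun j =>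
    force (Nat.mod j 1048576) fun c => force (Nat.mod (Nat.div j 1048576) 256) fun k =>
    force (Nat.mod (Nat.div j 268435456) 256) fun nb =>
    force (Nat.mod (Nat.div j 68719476736) 256) fun na =>
    gate (Bool.rec (motive := fun _ => Bool) (gate (Nat.beq c 0) (Nat.blt k nW)) true (Nat.blt k nR))
      (force (Nat.div j 17592186044416) fun items =>
        force (PW k) fun pw =>
        force (walk F iv K i nb items c pw) fun r =>
        force (Nat.shiftRight items (Nat.mul 22 nb)) fun items' =>
          closeCycle F iv K i na items' c f r)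

/-- Fact `i` defines the point `i + 1`. -/
noncomputable def checkDef (F : Nat → Nat) (i : Nat) : Bool :=
  force (F i) fun f => gate (Nat.beq (fv f) (Nat.succ i)) (Nat.ble (fu f) i)

/-- `p a, p (a + 1), …, p (a + n - 1)` are all true. -/
noncomputable def allFrom (p : Nat → Bool) (a n : Nat) : Bool :=
  Nat.rec (fun _ => true) (fun _ ih a => force a fun a => gate (p a) (ih (Nat.succ a))) n a

theorem allFrom_iff (p : Nat → Bool) (a n : Nat) :
    allFrom p a n = true ↔ ∀ i, a ≤ i → i < a + n → p i = true := by
  induction n generalizing a with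
  | zero => simp [allFrom]; omega
  | succ n ih =>
    have h : allFrom p a (n + 1) = cond (p a) (allFrom p (a + 1) n) false := by
      show force a (fun a => gate (p a) (allFrom p (Nat.succ a) n)) = _
      rw [force_eq, gate_eq]
      cases p a <;> rfl
    rw [h]
    constructor
    · intro h i hi hi'
      cases hp : p a <;> rw [hp] at h
      · simp at h
      · rcases eq_or_lt_of_le hi with rfl | hlt
        · exact hp
        · exact (ih (a + 1)).1 h i hlt (by omega)
    · intro h
      rw [h a le_rfl (by omega)]
      exact (ih (a + 1)).2 fun i hi hi' => h i (by omega) (by omega)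

theorem forall_lt_zero {P : Nat → Prop} : ∀ i, i < 0 → P i := fun _ h => absurd h (Nat.not_lt_zero _)

theorem forall_lt_step {p : Nat → Bool} {a b n : Nat} (h : ∀ i, i < a → p i = true)
    (hc : allFrom p a n = true) (hb : b = a + n) : ∀ i, i < b → p i = true := by
  intro i hi
  rcases Nat.lt_or_ge i a with h' | h'
  · exact h i h'
  · exact (allFrom_iff p a n).1 hc i h' (by omega)

section sound

variable {α : Type*} (σ : Nat → α → α)

/-- Apply a word, first letter first. -/
def app (w : List Nat) (a : α) : α := w.foldl (fun a x => σ x a) a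

@[simp] theorem app_nil (a : α) : app σ [] a = a := rfl

@[simp] theorem app_cons (x : Nat) (w : List Nat) (a : α) :
    app σ (x :: w) a = app σ w (σ x a) := rfl

theorem app_injective (hinj : ∀ x, Function.Injective (σ x)) (w : List Nat) :
    Function.Injective (app σ w) := by
  induction w with
  | nil => exact fun _ _ h => h
  | cons x w ih => exact fun a b h => hinj x (ih h)

/-- `w` is the packed form of `l`, whose letters are below 31. -/
def Packs (l : List Nat) (w : Nat) : Prop := w = pack l ∧ ∀ x ∈ l, x < 31

theorem packs_zero {l : List Nat} (h : Packs l 0) : l = [] := by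
  cases l with
  | nil => rfl
  | cons x t =>
    have : (0 : Nat) = Nat.add (Nat.succ x) (Nat.mul 32 (pack t)) := h.1
    have h' : (0 : Nat) = x + 1 + 32 * pack t := this
    omega

theorem eat_sound {K x w r : Nat} {l : List Nat} (hK : ∀ a, σ K a = a) (hl : Packs l w)
    (h : eat K x w = Nat.succ r) :
    ∃ l', Packs l' r ∧ ∀ a, app σ l a = app σ l' (σ x a) := by
  unfold eat sel at h
  cases hx : Nat.beq x K <;> rw [hx] at h
  · cases hd : Nat.beq (Nat.mod w 32) (Nat.succ x) <;> rw [hd] at h
    · exact absurd h (by simp)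
    · have hd' : w % 32 = x + 1 := Nat.eq_of_beq_eq_true hd
      have hr : r = w / 32 := (Nat.succ.inj h).symm
      cases l with
      | nil => have : w = 0 := hl.1; omega
      | cons y t =>
        have hw : w = y + 1 + 32 * pack t := hl.1
        have hy : y < 31 := hl.2 y (List.mem_cons_self ..)
        refine ⟨t, ⟨by omega, fun z hz => hl.2 z (List.mem_cons_of_mem _ hz)⟩, fun a => ?_⟩
        rw [app_cons, show y = x by omega]
  · exact ⟨l, (Nat.succ.inj h) ▸ hl, fun a => by rw [Nat.eq_of_beq_eq_true hx, hK]⟩

/-- Fact `i` holds for the points `q`. -/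
def Holds (F : Nat → Nat) (q : Nat → α) (i : Nat) : Prop :=
  q (fv (F i)) = σ (fx (F i)) (q (fu (F i)))

theorem hop_sound {K a x b cur w : Nat} {l : List Nat} {next : Nat → Nat → Nat} {q : Nat → α}
    (hK : ∀ z, σ K z = z) (hl : Packs l w) (hb : q b = σ x (q a))
    (h : hop K a x b cur w next ≠ 0) :
    ∃ r l', Packs l' r ∧ next b r = hop K a x b cur w next ∧
      app σ l (q cur) = app σ l' (q b) := by
  unfold hop sel at h ⊢
  cases hc : Nat.beq cur a <;> rw [hc] at h
  · exact absurd rfl h
  · simp only [force_eq] at h ⊢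
    obtain ⟨r, hr⟩ : ∃ r, eat K x w = Nat.succ r := by
      cases he : eat K x w with
      | zero => rw [he] at h; exact absurd rfl h
      | succ r => exact ⟨r, rfl⟩
    obtain ⟨l', hl', happ⟩ := eat_sound σ hK hl hr
    refine ⟨r, l', hl', ?_, by rw [happ, hb, Nat.eq_of_beq_eq_true hc]⟩
    rw [hr]; rfl

variable (iv : Nat → Nat) (hleft : ∀ x a, σ (iv x) (σ x a) = a)

include hleft

theorem walk_sound {F : Nat → Nat} {K i : Nat} {q : Nat → α} (hK : ∀ z, σ K z = z)
    (hq : ∀ m, m < i → Holds σ F q m) :
    ∀ {n j cur w s : Nat} {l : List Nat}, Packs l w → walk F iv K i n j cur w = Nat.succ s →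
      ∃ c r l', Packs l' r ∧ s = r * 1048576 + c ∧ (cur < 1048576 → c < 1048576) ∧
        app σ l (q cur) = app σ l' (q c) := by
  intro n
  induction n with
  | zero => exact fun hl h => ⟨_, _, _, hl, (Nat.succ.inj h).symm, id, rfl⟩
  | succ n ih =>
    intro j cur w s l hl h
    have h' : force (Nat.mod j 4194304) (fun it => force (Nat.div j 4194304) fun j' =>
      item F iv K i it cur w (walk F iv K i n j')) = Nat.succ s := h
    simp only [force_eq, item] at h'
    generalize Nat.mod j 4194304 = it, Nat.div j 4194304 = j' at h'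
    cases hlt : Nat.blt (Nat.div it 2) i <;> rw [hlt] at h'
    · exact absurd h' (by simp [sel])
    · simp only [sel] at h'
      generalize hm : Nat.div it 2 = m at hlt h'
      have hf : q (fv (F m)) = σ (fx (F m)) (q (fu (F m))) := hq _ (Nat.ble_eq.mp hlt)
      cases hd : Nat.beq (Nat.mod it 2) 0 <;> rw [hd] at h'
      · have hne : hop K (fv (F m)) (iv (fx (F m))) (fu (F m)) cur w (walk F iv K i n j') ≠ 0 :=
          fun h0 => Nat.succ_ne_zero s (h'.symm.trans h0)
        obtain ⟨r, l', hl', hn, happ⟩ :=
          hop_sound σ (q := q) hK hl (by rw [hf, hleft]) hne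
        obtain ⟨c, r', l'', hl'', hs, hlt', happ'⟩ := ih hl' (hn.trans h')
        exact ⟨c, r', l'', hl'', hs, fun _ => hlt' (Nat.mod_lt _ (by norm_num)), happ.trans happ'⟩
      · have hne : hop K (fu (F m)) (fx (F m)) (fv (F m)) cur w (walk F iv K i n j') ≠ 0 :=
          fun h0 => Nat.succ_ne_zero s (h'.symm.trans h0)
        obtain ⟨r, l', hl', hn, happ⟩ := hop_sound σ hK hl hf hne
        obtain ⟨c, r', l'', hl'', hs, hlt', happ'⟩ := ih hl' (hn.trans h')
        exact ⟨c, r', l'', hl'', hs, fun _ => hlt' (Nat.mod_lt _ (by norm_num)), happ.trans happ'⟩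

theorem checkFact_sound {F J PW : Nat → Nat} {K nR i : Nat} {W : List (List Nat)} {q : Nat → α}
    (hK : ∀ z, σ K z = z) (hinj : ∀ x, Function.Injective (σ x))
    (hPW : ∀ k, k < W.length → Packs (W.getD k []) (PW k)) (hnR : nR ≤ W.length)
    (hR : ∀ k, k < nR → ∀ a, app σ (W.getD k []) a = a)
    (hS : ∀ k, app σ (W.getD k []) (q 0) = q 0)
    (hq : ∀ m, m < i → Holds σ F q m) (h : checkFact F J PW iv K nR W.length i = true) :
    Holds σ F q i := by
  simp only [checkFact, closeCycle, force_eq, gate_eq, Bool.and_eq_true] at h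
  have hc1 : Nat.mod (J i) 1048576 < 1048576 := Nat.mod_lt _ (by norm_num)
  generalize Nat.mod (J i) 1048576 = c, Nat.mod (Nat.div (J i) 1048576) 256 = k,
    Nat.mod (Nat.div (J i) 268435456) 256 = nb, Nat.mod (Nat.div (J i) 68719476736) 256 = na,
    Nat.div (J i) 17592186044416 = items at h hc1
  obtain ⟨hk, hr, hu, hr2, hend⟩ := h
  obtain ⟨hlen, hfix⟩ : k < W.length ∧ app σ (W.getD k []) (q c) = q c := by
    cases h1 : Nat.blt k nR <;> rw [h1] at hk
    · simp only [Bool.and_eq_true] at hk
      exact ⟨Nat.ble_eq.mp hk.2, by rw [Nat.eq_of_beq_eq_true hk.1]; exact hS k⟩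
    · exact ⟨lt_of_lt_of_le (Nat.ble_eq.mp h1) hnR, hR k (Nat.ble_eq.mp h1) _⟩
  generalize hw1 : walk F iv K i nb items c (PW k) = r at hr hu hr2 hend
  obtain ⟨s, rfl⟩ : ∃ s, r = Nat.succ s :=
    ⟨r - 1, (Nat.sub_add_cancel (Nat.le_of_ble_eq_true hr)).symm⟩
  obtain ⟨e, w₁, l₁, hl₁, hs, hlt, happ₁⟩ :=
    walk_sound σ iv hleft hK hq (hPW k hlen) hw1
  have he : e < 1048576 := hlt hc1
  simp only [Nat.pred_succ] at hu hr2 hend
  have hu' : s % 1048576 = fu (F i) := Nat.eq_of_beq_eq_true hu
  obtain rfl : e = fu (F i) := by omega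
  have hdiv : Nat.div s 1048576 = w₁ := by
    show s / 1048576 = w₁
    omega
  rw [hdiv] at hr2 hend
  generalize hw2 : eat K (fx (F i)) w₁ = r₂ at hr2 hend
  obtain ⟨w₂, rfl⟩ : ∃ t, r₂ = Nat.succ t :=
    ⟨r₂ - 1, (Nat.sub_add_cancel (Nat.le_of_ble_eq_true hr2)).symm⟩
  simp only [Nat.pred_succ] at hend
  obtain ⟨l₂, hl₂, happ₂⟩ := eat_sound σ hK hl₁ hw2
  have hstop : walk F iv K i na (Nat.shiftRight items (Nat.mul 22 nb)) (fv (F i)) w₂ =
      Nat.succ c := by
    rw [Nat.eq_of_beq_eq_true hend]; simp [stop]
  obtain ⟨e', w₃, l₃, hl₃, hs₃, hlt₃, happ₃⟩ := walk_sound σ iv hleft hK hq hl₂ hstop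
  have he' : e' < 1048576 := hlt₃ (Nat.mod_lt _ (by norm_num))
  obtain rfl : w₃ = 0 := by omega
  obtain rfl : e' = c := by omega
  obtain rfl := packs_zero hl₃
  rw [app_nil] at happ₃
  rw [hfix, happ₂] at happ₁
  exact app_injective σ hinj l₂ (happ₃.trans happ₁)

end sound

end Cfsg.Agent.CosetCert
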