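import Mathlib
import Cfsg.Agent.CosetCert.Basic

/-!
From a checked coset enumeration to the index and the suborbits of a subgroup of a
presented group.
-/

namespace Cfsg.Agent.CosetCert

open Pointwise

/-- All data of a certificate. -/
structure Data where
  /-- the number of letters -/
  K : Nat
  /-- the index -/
  n : Nat
  /-- the number of defining facts -/
  M : Nat
  /-- the number of facts -/
  Nf : Nat
  /-- the number of words fixing every point -/
  nR : Nat
  iv : Nat → Nat
  F : Nat → Nat
  J : Nat → Nat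
  /-- at `c * K + x`: the image of `c` under `x`, and the fact proving it -/
  E : Nat → Nat
  /-- at `c`: the point of the log representing the coset `c` -/
  L : Nat → Nat
  /-- at `c`: `parent * 32 + letter` in a spanning tree -/
  P : Nat → Nat
  W : List (List Nat)
  /-- the packed form of the words -/
  PW : Nat → Nat
  /-- the words fixing every point, as powers `(w, m)` -/
  powers : List (List Nat × Nat)

namespace Data

variable (D : Data)

/-- The table. -/
noncomputable def T (c x : Nat) : Nat := Nat.mod (D.E (Nat.add (Nat.mul c D.K) x)) 1048576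

/-- Trace a word in the table. -/
noncomputable def fwd (w : List Nat) (c : Nat) : Nat :=
  List.rec (fun c => c) (fun x _ ih c => force (D.T c x) ih) w c

noncomputable def checkLog (i : Nat) : Bool :=
  cond (Nat.blt i D.M) (checkDef D.F i) (checkFact D.F D.J D.PW D.iv D.K D.nR D.W.length i)

/-- The edge of `c` along `x` is inside the table, is reversed by `iv x` and is a proved fact. -/
noncomputable def checkEdge (c x : Nat) : Bool :=
  force (D.E (Nat.add (Nat.mul c D.K) x)) fun e => force (Nat.mod e 1048576) fun d =>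
    force (Nat.div e 1048576) fun it => force (D.F (Nat.div it 2)) fun f =>
      gate (Nat.blt (Nat.div it 2) D.Nf) (gate (Nat.blt d D.n) (gate (Nat.beq (D.T d (D.iv x)) c)
        (Bool.rec (motive := fun _ => Bool)
          (gate (Nat.beq (fv f) (D.L c)) (gate (Nat.beq (D.iv (fx f)) x) (Nat.beq (fu f) (D.L d))))
          (gate (Nat.beq (fu f) (D.L c)) (gate (Nat.beq (fx f) x) (Nat.beq (fv f) (D.L d))))
          (Nat.beq (Nat.mod it 2) 0))))

/-- All edges at `c`, and the tree edge into `c`. -/
noncomputable def checkCoset (c : Nat) : Bool :=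
  allFrom (D.checkEdge c) 0 D.K &&
    (Nat.beq c 0 || force (D.P c) fun p =>
      Nat.blt (p / 32) c && (Nat.blt (p % 32) D.K && Nat.beq (D.T (p / 32) (p % 32)) c))

/-- The `j`th and later powers of `w`, from `d`: closes at `c`, or passes below `c`. -/
noncomputable def closes (w : List Nat) (c : Nat) (m : Nat) : Nat → Bool :=
  Nat.rec (fun d => Nat.beq d c)
    (fun _ ih d => force (D.fwd w d) fun d' =>
      Bool.rec (motive := fun _ => Bool) (ih d') true (Nat.blt d' c)) m

/-- Every power word closes at `c`, granted that it does below `c`. -/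
noncomputable def checkRels (c : Nat) : Bool :=
  List.rec true (fun p _ ih => gate (D.closes p.1 c p.2 c) ih) D.powers

/-- `O` is closed under the subgroup's words and is reached from `root`. -/
noncomputable def checkOrbit (O : Nat) (root : Nat) (Q : Nat → Nat) (c : Nat) : Bool :=
  !(O.testBit c) ||
    (((D.W.drop D.nR).all fun w => O.testBit (D.fwd w c)) &&
      (Nat.beq c root || force (Q c) fun q => force (q / 32 % 1048576) fun p =>
        Nat.blt p D.n && (O.testBit p && (Nat.blt (Q p / 33554432) (q / 33554432) &&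
          (Nat.blt (q % 32) (D.W.drop D.nR).length &&
            Nat.beq (D.fwd ((D.W.drop D.nR).getD (q % 32) []) p) c)))))

/-- The kernel-checked part of a certificate. -/
structure Valid : Prop where
  n_pos : 0 < D.n
  root : D.L 0 = 0
  log : ∀ i, i < D.Nf → D.checkLog i = true
  coset : ∀ c, c < D.n → D.checkCoset c = true
  rels : ∀ c, c < D.n → D.checkRels c = true
  powers_eq : D.W.take D.nR = D.powers.map fun p => (List.replicate p.2 p.1).flatten
  pw : ∀ k, k < D.W.length → D.PW k = pack (D.W.getD k [])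
  letters : D.W.all (fun w => w.all fun x => Nat.blt x D.K) = true
  K_small : D.K < 31
  nR_le : D.nR ≤ D.W.length
  subs : (D.W.drop D.nR).all (fun w => Nat.beq (D.fwd w 0) 0) = true
  iv_iv : ∀ x, x < D.K → D.iv (D.iv x) = x ∧ D.iv x < D.K
  iv_big : ∀ x, D.K ≤ x → D.iv x = x

variable {D}

/-- The points of the log. -/
noncomputable def points {α : Type*} (D : Data) (σ : Nat → α → α) (a : α) : Nat → α
  | 0 => a
  | i + 1 => if fu (D.F i) ≤ i then σ (fx (D.F i)) (points D σ a (fu (D.F i))) else a
  decreasing_by omega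

theorem points_zero {α : Type*} {σ : Nat → α → α} {a : α} : points D σ a 0 = a := by
  rw [points]

theorem holds_points {α : Type*} {σ : Nat → α → α} {a : α} {i : Nat}
    (hc : checkDef D.F i = true) : Holds σ D.F (points D σ a) i := by
  simp only [checkDef, force_eq, gate_eq, Bool.and_eq_true] at hc
  unfold Holds
  rw [Nat.eq_of_beq_eq_true hc.1, points, if_pos (Nat.le_of_ble_eq_true hc.2)]

@[simp] theorem fwd_nil (c : Nat) : D.fwd [] c = c := rfl

@[simp] theorem fwd_cons (x : Nat) (w : List Nat) (c : Nat) :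
    D.fwd (x :: w) c = D.fwd w (D.T c x) := by
  simp [fwd]

theorem fwd_append (u v : List Nat) : ∀ c, D.fwd (u ++ v) c = D.fwd v (D.fwd u c) := by
  induction u with
  | nil => intro c; rfl
  | cons x u ih => intro c; simp [ih]

theorem fwd_replicate (w : List Nat) (m : Nat) :
    ∀ c, D.fwd (List.replicate m w).flatten c = (D.fwd w)^[m] c := by
  induction m with
  | zero => intro c; rfl
  | succ m ih => intro c; simp [List.replicate_succ, fwd_append, ih]

theorem closes_spec {w : List Nat} {c : Nat} : ∀ {m d : Nat}, D.closes w c m d = true →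
    (∃ j, j ≤ m ∧ 0 < j ∧ (D.fwd w)^[j] d < c) ∨ (D.fwd w)^[m] d = c := by
  intro m
  induction m with
  | zero => exact fun h => Or.inr (Nat.eq_of_beq_eq_true h)
  | succ m ih =>
    intro d h
    have h' : force (D.fwd w d) (fun d' =>
        Bool.rec (motive := fun _ => Bool) (D.closes w c m d') true (Nat.blt d' c)) = true := h
    rw [force_eq] at h'
    cases hb : Nat.blt (D.fwd w d) c <;> rw [hb] at h'
    · rcases ih h' with ⟨j, hj, hj0, hlt⟩ | hd
      · exact Or.inl ⟨j + 1, by omega, by omega, by simpa using hlt⟩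
      · exact Or.inr (by simpa using hd)
    · exact Or.inl ⟨1, by omega, by omega, by simpa using Nat.ble_eq.mp hb⟩

theorem T_def (c x : Nat) : D.T c x = D.E (c * D.K + x) % 1048576 := rfl

theorem Valid.edge (h : D.Valid) {c x : Nat} (hc : c < D.n) (hx : x < D.K) :
    D.T c x < D.n ∧ D.T (D.T c x) (D.iv x) = c := by
  have h1 := (Bool.and_eq_true_iff.1 (h.coset c hc)).1
  have h2 := (allFrom_iff _ _ _).1 h1 x (Nat.zero_le _) (by omega)
  simp only [checkEdge, force_eq, gate_eq, Nat.add_eq, Nat.mul_eq] at h2
  change ((_ && ((Nat.blt (D.T c x) D.n) && _)) = true) at h2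
  simp only [Bool.and_eq_true] at h2
  exact ⟨Nat.ble_eq.mp h2.2.1, Nat.eq_of_beq_eq_true h2.2.2.1⟩

theorem Valid.edge_fact {α : Type*} {σ : Nat → α → α} {q : Nat → α} (h : D.Valid) {c x : Nat}
    (hc : c < D.n) (hx : x < D.K) (hσ : ∀ y a, σ (D.iv y) (σ y a) = a)
    (hq : ∀ i, i < D.Nf → Holds σ D.F q i) : q (D.L (D.T c x)) = σ x (q (D.L c)) := by
  have h1 := (Bool.and_eq_true_iff.1 (h.coset c hc)).1
  have h2 := (allFrom_iff _ _ _).1 h1 x (Nat.zero_le _) (by omega)
  simp only [checkEdge, force_eq, gate_eq, Nat.add_eq, Nat.mul_eq] at h2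
  change ((_ && ((Nat.blt (D.T c x) D.n) && _)) = true) at h2
  simp only [Bool.and_eq_true] at h2
  obtain ⟨hi, -, -, hfact⟩ := h2
  rw [show Nat.mod (D.E (c * D.K + x)) 1048576 = D.T c x from rfl] at hfact
  have hh := hq _ (Nat.ble_eq.mp hi)
  unfold Holds at hh
  generalize Nat.div (D.E (c * D.K + x)) 1048576 = it at hh hfact
  generalize D.F (Nat.div it 2) = f at hh hfact
  generalize D.L (D.T c x) = l at hfact ⊢
  generalize D.L c = m at hfact ⊢
  cases hb : Nat.beq (Nat.mod it 2) 0 <;> rw [hb] at hfact
  · simp only [Bool.and_eq_true] at hfact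
    obtain rfl := Nat.eq_of_beq_eq_true hfact.1
    obtain rfl := Nat.eq_of_beq_eq_true hfact.2.1
    obtain rfl := Nat.eq_of_beq_eq_true hfact.2.2
    rw [hh, hσ]
  · simp only [Bool.and_eq_true] at hfact
    obtain rfl := Nat.eq_of_beq_eq_true hfact.1
    obtain rfl := Nat.eq_of_beq_eq_true hfact.2.1
    obtain rfl := Nat.eq_of_beq_eq_true hfact.2.2
    rw [hh]

theorem Valid.fwd_inj (h : D.Valid) : ∀ {w : List Nat}, (∀ x ∈ w, x < D.K) → ∀ {c d : Nat},
    c < D.n → d < D.n → D.fwd w c = D.fwd w d → c = d := by
  intro w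
  induction w with
  | nil => exact fun _ _ _ _ _ hcd => hcd
  | cons x w ih =>
    intro hw c d hc hd hcd
    rw [fwd_cons, fwd_cons] at hcd
    have hx := hw x (List.mem_cons_self ..)
    have hT := ih (fun y hy => hw y (List.mem_cons_of_mem _ hy)) (h.edge hc hx).1 (h.edge hd hx).1 hcd
    rw [← (h.edge hc hx).2, hT, (h.edge hd hx).2]

theorem Valid.fwd_lt (h : D.Valid) : ∀ {w : List Nat}, (∀ x ∈ w, x < D.K) → ∀ {c : Nat},
    c < D.n → D.fwd w c < D.n := by
  intro w
  induction w with
  | nil => exact fun _ _ hc => hc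
  | cons x w ih =>
    intro hw c hc
    rw [fwd_cons]
    exact ih (fun y hy => hw y (List.mem_cons_of_mem _ hy))
      (h.edge hc (hw x (List.mem_cons_self ..))).1

theorem Valid.letters_lt (h : D.Valid) {w : List Nat} (hw : w ∈ D.W) : ∀ x ∈ w, x < D.K :=
  fun x hx => Nat.ble_eq.mp (List.all_eq_true.1 (List.all_eq_true.1 h.letters w hw) x hx)

theorem Valid.fwd_relator (h : D.Valid) {w : List Nat} (hw : w ∈ D.W.take D.nR) :
    ∀ c, c < D.n → D.fwd w c = c := by
  have hWlt := h.letters_lt (List.mem_of_mem_take hw)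
  rw [h.powers_eq, List.mem_map] at hw
  obtain ⟨⟨u, m⟩, hp, rfl⟩ := hw
  rcases Nat.eq_zero_or_pos m with rfl | hm
  · intro c _; rfl
  have hu : ∀ x ∈ u, x < D.K := fun x hx =>
    hWlt x (List.mem_flatten.2 ⟨u, List.mem_replicate.2 ⟨by omega, rfl⟩, hx⟩)
  intro c
  induction c using Nat.strong_induction_on with
  | _ c ih =>
    intro hc
    rw [fwd_replicate]
    have hchk : D.closes u c m c = true := by
      have h1 := h.rels c hc
      unfold checkRels at h1
      generalize D.powers = L at hp h1
      induction L with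
      | nil => exact absurd hp (List.not_mem_nil)
      | cons p L ihL =>
        have h2 : gate (D.closes p.1 c p.2 c)
            (List.rec true (fun p _ ih => gate (D.closes p.1 c p.2 c) ih) L) = true := h1
        rw [gate_eq, Bool.and_eq_true] at h2
        rcases List.mem_cons.1 hp with rfl | hp'
        · exact h2.1
        · exact ihL hp' h2.2
    rcases closes_spec hchk with ⟨j, -, -, hlt⟩ | hd
    · have hfix := ih _ hlt (lt_trans hlt hc)
      rw [fwd_replicate] at hfix
      have hiter : ∀ k (a b : Nat), a < D.n → b < D.n →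
          (D.fwd u)^[k] a = (D.fwd u)^[k] b → a = b := by
        intro k
        induction k with
        | zero => exact fun a b _ _ hab => hab
        | succ k ihk =>
          intro a b ha hb hab
          rw [Function.iterate_succ_apply, Function.iterate_succ_apply] at hab
          exact h.fwd_inj hu ha hb (ihk _ _ (h.fwd_lt hu ha) (h.fwd_lt hu hb) hab)
      have hlt' : (D.fwd u)^[m] c < D.n := by
        clear hfix hiter
        induction m with
        | zero => exact hc
        | succ k _ =>
          have : ∀ k a, a < D.n → (D.fwd u)^[k] a < D.n := by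
            intro k
            induction k with
            | zero => exact fun a ha => ha
            | succ k ihk =>
              intro a ha
              rw [Function.iterate_succ_apply]; exact ihk _ (h.fwd_lt hu ha)
          exact this _ c hc
      apply hiter j _ _ hlt' hc
      rwa [← Function.iterate_add_apply, Nat.add_comm, Function.iterate_add_apply]
    · exact hd

/-- The permutation of the letter `x`. -/
noncomputable def Valid.perm (h : D.Valid) (x : Nat) : Equiv.Perm (Fin D.n) :=
  if hx : x < D.K then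
    { toFun := fun c => ⟨D.T c x, (h.edge c.2 hx).1⟩
      invFun := fun c => ⟨D.T c (D.iv x), (h.edge c.2 (h.iv_iv x hx).2).1⟩
      left_inv := fun c => Fin.ext (h.edge c.2 hx).2
      right_inv := fun c => Fin.ext (by
        have := (h.edge c.2 (h.iv_iv x hx).2).2
        rw [(h.iv_iv x hx).1] at this
        exact this) }
  else 1

theorem Valid.perm_apply (h : D.Valid) {x : Nat} (hx : x < D.K) (c : Fin D.n) :
    ((h.perm x c : Fin D.n) : Nat) = D.T c x := by
  simp [Valid.perm, hx]

theorem Valid.perm_iv (h : D.Valid) {x : Nat} (hx : x < D.K) : h.perm (D.iv x) = (h.perm x)⁻¹ := by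
  apply eq_inv_of_mul_eq_one_left
  ext c
  rw [Equiv.Perm.mul_apply, Equiv.Perm.one_apply, Valid.perm_apply h (h.iv_iv x hx).2,
    Valid.perm_apply h hx, (h.edge c.2 hx).2]

section pres

variable {β : Type*} (h : D.Valid) (enc : β → Nat) (henc : ∀ b, enc b < D.K)

/-- The code of a signed letter. -/
def code (iv : Nat → Nat) (enc : β → Nat) (l : β × Bool) : Nat :=
  cond l.2 (enc l.1) (iv (enc l.1))

include henc in
theorem code_lt (h : D.Valid) (l : β × Bool) : code D.iv enc l < D.K := by
  obtain ⟨b, _ | _⟩ := l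
  · exact (h.iv_iv _ (henc b)).2
  · exact henc b

/-- The action of a free group word on the table: a generator moves `c` against its letter. -/
noncomputable def act : FreeGroup β →* Equiv.Perm (Fin D.n) :=
  FreeGroup.lift fun b => (h.perm (enc b))⁻¹

include henc in
theorem act_inv_mk (l : List (β × Bool)) (c : Fin D.n) :
    (((act h enc (FreeGroup.mk l))⁻¹ c : Fin D.n) : Nat) = D.fwd (l.map (code D.iv enc)) c := by
  induction l generalizing c with
  | nil =>
    have : (FreeGroup.mk ([] : List (β × Bool))) = 1 := rfl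
    simp [this]
  | cons a t ih =>
    have hsplit : FreeGroup.mk (a :: t) = FreeGroup.mk [a] * FreeGroup.mk t := by
      rw [FreeGroup.mul_mk]; rfl
    have hone : act h enc (FreeGroup.mk [a]) = (h.perm (code D.iv enc a))⁻¹ := by
      obtain ⟨b, _ | _⟩ := a
      · simp [act, code, Valid.perm_iv h (henc b)]
      · simp [act, code]
    rw [hsplit, map_mul, mul_inv_rev, Equiv.Perm.mul_apply, ih, hone, inv_inv,
      Valid.perm_apply h (code_lt enc henc h a), List.map_cons, fwd_cons]

end pres

/-- How the numeric words of a certificate spell a presentation and a subgroup of it. -/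
structure Spells {β : Type*} [DecidableEq β] (D : Data) (rels : Set (FreeGroup β))
    (Sg : List (FreeGroup β)) (enc : β → Nat) (dec : Nat → β × Bool)
    (RL : List (List (β × Bool))) : Prop where
  enc_lt : ∀ b, enc b < D.K ∧ dec (enc b) = (b, true)
  inv_letter : ∀ x, x < D.K →
    PresentedGroup.mk rels (FreeGroup.mk [dec (D.iv x)]) *
      PresentedGroup.mk rels (FreeGroup.mk [dec x]) = 1
  rels_one : ∀ l ∈ RL, PresentedGroup.mk rels (FreeGroup.mk l) = 1
  rels_mem : rels ⊆ (Subgroup.normalClosure {r | r ∈ RL.map FreeGroup.mk} : Subgroup (FreeGroup β))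
  take_eq : D.W.take D.nR = RL.map (List.map (code D.iv enc)) ++
    ([] :: (List.range D.K).map fun x => [x, D.iv x])
  code_dec : ∀ x, x < D.K → code D.iv enc (dec x) = x
  drop_eq : D.W.drop D.nR = Sg.map fun s => s.toWord.map (code D.iv enc)

section main

variable {β : Type*} [DecidableEq β] {rels : Set (FreeGroup β)} {Sg : List (FreeGroup β)}
  {enc : β → Nat} {dec : Nat → β × Bool} {RL : List (List (β × Bool))}

/-- The subgroup in question. -/
def sub (rels : Set (FreeGroup β)) (Sg : List (FreeGroup β)) : Subgroup (PresentedGroup rels) :=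
  (Subgroup.closure {s | s ∈ Sg}).map (PresentedGroup.mk rels)

theorem enumeration (h : D.Valid) (S : Spells D rels Sg enc dec RL) :
    ∃ (φ : PresentedGroup rels →* Equiv.Perm (Fin D.n))
      (π : Fin D.n ≃ PresentedGroup rels ⧸ sub rels Sg),
      (∀ g c, π (φ g c) = g • π c) ∧
        (∀ (l : List (β × Bool)) (c : Fin D.n),
          (((φ (PresentedGroup.mk rels (FreeGroup.mk l)))⁻¹ c : Fin D.n) : Nat) =
            D.fwd (l.map (code D.iv enc)) c) := by
  classical
  have henc := fun b => (S.enc_lt b).1
  -- the action on the table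
  have hr : ∀ r ∈ rels, act h enc r = 1 := by
    have hle : Subgroup.normalClosure {r | r ∈ RL.map FreeGroup.mk} ≤ (act h enc).ker := by
      apply Subgroup.normalClosure_le_normal
      intro r hr
      obtain ⟨l, hl, rfl⟩ := List.mem_map.1 hr
      rw [SetLike.mem_coe, MonoidHom.mem_ker]
      apply inv_injective
      ext c
      rw [inv_one, Equiv.Perm.one_apply, act_inv_mk h enc henc]
      refine h.fwd_relator ?_ c c.2
      rw [S.take_eq]
      exact List.mem_append_left _ (List.mem_map_of_mem hl)
    exact fun r hr => hle (S.rels_mem hr)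
  let φ : PresentedGroup rels →* Equiv.Perm (Fin D.n) := PresentedGroup.toGroup hr
  have hφ : ∀ w, φ (PresentedGroup.mk rels w) = act h enc w := by
    intro w
    have : φ.comp (PresentedGroup.mk rels) = act h enc := by
      apply FreeGroup.ext_hom
      intro b
      simp only [MonoidHom.comp_apply]
      exact (PresentedGroup.toGroup.of hr).trans (by simp [act])
    exact DFunLike.congr_fun this w
  have hfwd : ∀ (l : List (β × Bool)) (c : Fin D.n),
      (((φ (PresentedGroup.mk rels (FreeGroup.mk l)))⁻¹ c : Fin D.n) : Nat) =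
        D.fwd (l.map (code D.iv enc)) c := fun l c => by rw [hφ, act_inv_mk h enc henc]
  -- letters
  let G := PresentedGroup rels
  let lt : Nat → G := fun x => if x < D.K then PresentedGroup.mk rels (FreeGroup.mk [dec x]) else 1
  let σ : Nat → G ⧸ sub rels Sg → G ⧸ sub rels Sg := fun x a => (lt x)⁻¹ • a
  have hltinv : ∀ x, x < D.K → lt (D.iv x) = (lt x)⁻¹ := by
    intro x hx
    apply eq_inv_of_mul_eq_one_left
    simp only [lt, if_pos hx, if_pos (h.iv_iv x hx).2]
    exact S.inv_letter x hx
  have hltcode : ∀ a : β × Bool, lt (code D.iv enc a) = PresentedGroup.mk rels (FreeGroup.mk [a]) := by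
    rintro ⟨b, _ | _⟩
    · have : code D.iv enc (b, false) = D.iv (enc b) := rfl
      rw [this, hltinv _ (henc b)]
      simp only [lt, if_pos (henc b), (S.enc_lt b).2]
      rw [← map_inv, FreeGroup.inv_mk]; rfl
    · have : code D.iv enc (b, true) = enc b := rfl
      rw [this]; simp only [lt, if_pos (henc b), (S.enc_lt b).2]
  have hσK : ∀ z, σ D.K z = z := fun z => by simp [σ, lt]
  have hinj : ∀ x, Function.Injective (σ x) := fun x => MulAction.injective _
  have happ : ∀ (w : List Nat) a, app σ w a = ((w.map lt).prod)⁻¹ • a := by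
    intro w
    induction w with
    | nil => intro a; simp
    | cons x t ih => intro a; simp [ih, σ, mul_smul]
  have happcode : ∀ (l : List (β × Bool)) a,
      app σ (l.map (code D.iv enc)) a =
        (PresentedGroup.mk rels (FreeGroup.mk l))⁻¹ • a := by
    intro l a
    rw [happ]
    congr 2
    induction l with
    | nil => exact (map_one _).symm
    | cons b t ih =>
      have : FreeGroup.mk (b :: t) = FreeGroup.mk [b] * FreeGroup.mk t := by
        rw [FreeGroup.mul_mk]; rfl
      rw [List.map_cons, List.map_cons, List.prod_cons, ih, hltcode, this, map_mul]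
  have hleft : ∀ x a, σ (D.iv x) (σ x a) = a := by
    intro x a
    by_cases hx : x < D.K
    · simp [σ, hltinv x hx]
    · simp [σ, lt, h.iv_big x (Nat.le_of_not_lt hx), hx]
  -- words of the log
  have hrelone := S.rels_one
  have hR : ∀ k, k < D.nR → ∀ a, app σ (D.W.getD k []) a = a := by
    intro k hk a
    by_cases hlen : k < D.W.length
    · have hmem : D.W.getD k [] ∈ D.W.take D.nR := by
        rw [List.getD_eq_getElem _ _ hlen, List.mem_take_iff_getElem]
        exact ⟨k, lt_min hk hlen, rfl⟩
      generalize D.W.getD k [] = w at hmem ⊢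
      rw [S.take_eq, List.mem_append, List.mem_cons, List.mem_map, List.mem_map] at hmem
      rcases hmem with ⟨l, hl, rfl⟩ | rfl | ⟨x, -, rfl⟩
      · rw [happcode, hrelone l hl, inv_one, one_smul]
      · rfl
      · simp [hleft]
    · rw [List.getD_eq_default _ _ (Nat.le_of_not_lt hlen)]; rfl
  let a0 : G ⧸ sub rels Sg := ((1 : G) : G ⧸ sub rels Sg)
  have hfix0 : ∀ g ∈ sub rels Sg, g • a0 = a0 := by
    intro g hg
    show ((g * 1 : G) : G ⧸ sub rels Sg) = ((1 : G) : G ⧸ sub rels Sg)
    rw [QuotientGroup.eq]
    simpa using hg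
  have hS : ∀ k, app σ (D.W.getD k []) a0 = a0 := by
    intro k
    by_cases hk : k < D.nR
    · exact hR k hk a0
    by_cases hlen : k < D.W.length
    · have hmem : D.W.getD k [] ∈ D.W.drop D.nR := by
        rw [List.getD_eq_getElem _ _ hlen, List.mem_drop_iff_getElem]
        exact ⟨k - D.nR, by omega, by congr 1; omega⟩
      generalize D.W.getD k [] = w at hmem ⊢
      rw [S.drop_eq, List.mem_map] at hmem
      obtain ⟨s, hs, rfl⟩ := hmem
      rw [happcode, FreeGroup.mk_toWord]
      exact hfix0 _ (Subgroup.inv_mem _ (Subgroup.mem_map_of_mem _ (Subgroup.subset_closure hs)))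
    · rw [List.getD_eq_default _ _ (Nat.le_of_not_lt hlen)]; rfl
  -- the points of the log
  let q : Nat → G ⧸ sub rels Sg := points D σ a0
  have hq : ∀ i, i < D.Nf → Holds σ D.F q i := by
    intro i
    induction i using Nat.strong_induction_on with
    | _ i ih =>
      intro hi
      have hc := h.log i hi
      simp only [checkLog] at hc
      cases hm : Nat.blt i D.M <;> rw [hm] at hc
      · exact checkFact_sound σ D.iv hleft (W := D.W) hσK hinj (fun k hk => ⟨h.pw k hk, fun x hx => lt_trans (h.letters_lt (w := D.W.getD k []) (by rw [List.getD_eq_getElem _ _ hk]; exact List.getElem_mem _) x (by exact hx)) h.K_small⟩) h.nR_le hR (fun k => by rw [show q 0 = a0 from points_zero]; exact hS k)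
          (fun m hm => ih m hm (hm.trans hi)) hc
      · exact holds_points hc
  have hedge : ∀ (x : Nat) (c : Fin D.n), x < D.K → q (D.L (D.T c x)) = σ x (q (D.L c)) :=
    fun x c hx => h.edge_fact c.2 hx hleft hq
  let π : Fin D.n → G ⧸ sub rels Sg := fun c => q (D.L c)
  have hπ : ∀ g c, π (φ g c) = g • π c := by
    have hgen : ∀ b c, π ((φ (PresentedGroup.of b : G))⁻¹ c) = (PresentedGroup.of b : G)⁻¹ • π c := by
      intro b c
      have h1 : ((((φ (PresentedGroup.of b))⁻¹) c : Fin D.n) : Nat) = D.T c (enc b) := by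
        have h2 := hfwd [(b, true)] c
        rw [List.map_cons, List.map_nil, fwd_cons, fwd_nil] at h2
        exact h2
      show q (D.L _) = _
      rw [h1, hedge _ c (henc b)]
      show (lt (enc b))⁻¹ • _ = _
      rw [show lt (enc b) = PresentedGroup.of b from
        (by simp only [lt, if_pos (henc b), (S.enc_lt b).2]; rfl)]
    intro g
    have hmem : g ∈ Subgroup.closure (Set.range (PresentedGroup.of : β → G)) := by
      rw [PresentedGroup.closure_range_of]; trivial
    induction hmem using Subgroup.closure_induction with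
    | mem x hx =>
      obtain ⟨b, rfl⟩ := hx
      intro c
      have := hgen b (φ (PresentedGroup.of b) c)
      rw [← Equiv.Perm.mul_apply, inv_mul_cancel, Equiv.Perm.one_apply] at this
      rw [this, smul_inv_smul]
    | one => intro c; simp
    | mul x y _ _ hx hy => intro c; simp [hx, hy, mul_smul]
    | inv x _ hx =>
      intro c
      have := hx (φ x⁻¹ c)
      rw [map_inv, ← Equiv.Perm.mul_apply, mul_inv_cancel, Equiv.Perm.one_apply] at this
      rw [map_inv, this, inv_smul_smul]
  let c0 : Fin D.n := ⟨0, h.n_pos⟩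
  have hπ0 : π c0 = a0 := by
    show q (D.L 0) = a0
    rw [h.root]; exact points_zero
  have hstab : ∀ g ∈ sub rels Sg, φ g c0 = c0 := by
    intro g hg
    obtain ⟨s, hs, rfl⟩ := Subgroup.mem_map.1 hg
    induction hs using Subgroup.closure_induction with
    | mem s hs =>
      have h1 := hfwd s.toWord c0
      rw [FreeGroup.mk_toWord] at h1
      have h2 : (s.toWord.map (code D.iv enc)) ∈ D.W.drop D.nR :=
        S.drop_eq ▸ List.mem_map_of_mem hs
      rw [Nat.eq_of_beq_eq_true (List.all_eq_true.1 h.subs _ h2)] at h1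
      have h3 : (φ (PresentedGroup.mk rels s))⁻¹ c0 = c0 := Fin.ext h1
      exact (Equiv.Perm.inv_eq_iff_eq.1 h3).symm
    | one => simp
    | mul x y hx hy h1 h2 =>
      simp [h1 (Subgroup.mem_map_of_mem _ hx), h2 (Subgroup.mem_map_of_mem _ hy)]
    | inv x hx h1 =>
      rw [map_inv, map_inv, Equiv.Perm.inv_eq_iff_eq]
      exact (h1 (Subgroup.mem_map_of_mem _ hx)).symm
  have htrans : ∀ c : Fin D.n, ∃ g, φ g c0 = c := by
    rintro ⟨c, hc⟩
    induction c using Nat.strong_induction_on with
    | _ c ih =>
      have h1 := (Bool.and_eq_true_iff.1 (h.coset c hc)).2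
      rcases Bool.or_eq_true_iff.1 h1 with h1 | h1
      · exact ⟨1, by simp [c0, Nat.eq_of_beq_eq_true h1]⟩
      · simp only [force_eq, Bool.and_eq_true] at h1
        obtain ⟨hp, hl, hT⟩ := h1
        obtain ⟨g, hg⟩ := ih _ (Nat.ble_eq.mp hp) (lt_trans (Nat.ble_eq.mp hp) hc)
        have hx : D.P c % 32 < D.K := Nat.ble_eq.mp hl
        refine ⟨(lt (D.P c % 32))⁻¹ * g, ?_⟩
        rw [map_mul, Equiv.Perm.mul_apply, hg, map_inv]
        apply Fin.ext
        have hl2 : lt (D.P c % 32) = PresentedGroup.mk rels (FreeGroup.mk [dec (D.P c % 32)]) := by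
          simp only [lt, if_pos hx]
        rw [hl2, hfwd, List.map_cons, List.map_nil, S.code_dec _ hx, fwd_cons, fwd_nil]
        exact Nat.eq_of_beq_eq_true hT
  have hcoset : ∀ (g : G), ((g : G) : G ⧸ sub rels Sg) = g • a0 := fun g => by
    show _ = ((g * 1 : G) : G ⧸ sub rels Sg)
    rw [mul_one]
  have hbij : Function.Bijective π := by
    constructor
    · intro c c' hcc
      obtain ⟨g, rfl⟩ := htrans c
      obtain ⟨g', rfl⟩ := htrans c'
      rw [hπ, hπ, hπ0, ← hcoset, ← hcoset, QuotientGroup.eq] at hcc
      have := hstab _ hcc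
      rw [map_mul, map_inv, Equiv.Perm.mul_apply, Equiv.Perm.inv_eq_iff_eq] at this
      exact this.symm
    · intro a
      induction a using QuotientGroup.induction_on with
      | _ g => exact ⟨φ g c0, by rw [hπ, hπ0, hcoset]⟩
  exact ⟨φ, Equiv.ofBijective π hbij, hπ, hfwd⟩

theorem index_eq (h : D.Valid) (S : Spells D rels Sg enc dec RL) :
    (sub rels Sg).index = D.n := by
  obtain ⟨φ, π, -, -⟩ := enumeration h S
  rw [Subgroup.index, ← Nat.card_congr π, Nat.card_fin]

/-- Counting the elements of a bit set below `n`. -/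
noncomputable def count (O : Nat) (n : Nat) : Nat :=
  Nat.rec 0 (fun m ih => cond (O.testBit m) (ih + 1) ih) n

theorem count_eq (O n : Nat) : count O n = ({c : Fin n | O.testBit c} : Set (Fin n)).ncard := by
  have h : count O n = Nat.count (fun c => O.testBit c = true) n := by
    induction n with
    | zero => simp [count]
    | succ n ih =>
      rw [Nat.count_succ, ← ih]
      show cond (O.testBit n) (count O n + 1) (count O n) = _
      cases O.testBit n <;> simp
  rw [h, Nat.count_eq_card_filter_range, Set.ncard_eq_toFinset_card', Set.toFinset_ofPred]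
  refine Finset.card_bij (fun c hc => ⟨c, Finset.mem_range.1 (Finset.mem_filter.1 hc).1⟩) ?_ ?_ ?_
  · intro c hc
    simpa using (Finset.mem_filter.1 hc).2
  · intro a _ b _ hab
    exact congrArg Fin.val hab
  · intro c hc
    exact ⟨c.1, by simpa using hc, rfl⟩

theorem orbit_eq (h : D.Valid) (S : Spells D rels Sg enc dec RL)
    (φ : PresentedGroup rels →* Equiv.Perm (Fin D.n))
    (π : Fin D.n ≃ PresentedGroup rels ⧸ sub rels Sg) (hπ : ∀ g c, π (φ g c) = g • π c)
    (hfwd : ∀ (l : List (β × Bool)) (c : Fin D.n),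
      (((φ (PresentedGroup.mk rels (FreeGroup.mk l)))⁻¹ c : Fin D.n) : Nat) =
        D.fwd (l.map (code D.iv enc)) c)
    (O root : Nat) (Q : Nat → Nat) (hroot : root < D.n ∧ O.testBit root = true)
    (hO : ∀ c, c < D.n → D.checkOrbit O root Q c = true) :
    MulAction.orbit (sub rels Sg) (π ⟨root, hroot.1⟩) = π '' {c | O.testBit c} := by

  let B : Set (Fin D.n) := {c | O.testBit c}
  have hgens : ∀ s ∈ Sg, ∀ c : Fin D.n,
      (((φ (PresentedGroup.mk rels s))⁻¹ c : Fin D.n) : Nat) =
        D.fwd (s.toWord.map (code D.iv enc)) c := by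
    intro s _ c
    have := hfwd s.toWord c
    rwa [FreeGroup.mk_toWord] at this
  have hclosed : ∀ g ∈ sub rels Sg, ∀ c : Fin D.n, φ g c ∈ B ↔ c ∈ B := by
    intro g hg
    obtain ⟨s, hs, rfl⟩ := Subgroup.mem_map.1 hg
    clear hg
    induction hs using Subgroup.closure_induction with
    | mem s hs =>
      have hmaps : Set.MapsTo (⇑(φ (PresentedGroup.mk rels s))⁻¹) B B := by
        intro c hc
        have h1 := hO c c.2
        simp only [checkOrbit, show O.testBit (c : Nat) = true from hc, Bool.not_true,
          Bool.false_or, Bool.and_eq_true] at h1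
        have h2 := List.all_eq_true.1 h1.1 _ (S.drop_eq ▸ List.mem_map_of_mem hs)
        show O.testBit _ = true
        rw [hgens s hs c]; exact h2
      intro c
      constructor
      · intro hc
        have := hmaps hc
        rwa [← Equiv.Perm.mul_apply, inv_mul_cancel, Equiv.Perm.one_apply] at this
      · intro hc
        have himg : (⇑(φ (PresentedGroup.mk rels s))⁻¹) '' B = B :=
          Set.eq_of_subset_of_ncard_le hmaps.image_subset
            (Set.ncard_image_of_injective _ (Equiv.injective _)).ge (Set.toFinite _)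
        obtain ⟨d, hd, hdc⟩ := himg.symm.subset hc
        rw [Equiv.Perm.inv_eq_iff_eq] at hdc
        exact hdc ▸ hd
    | one => simp
    | mul x y _ _ hx hy => intro c; rw [map_mul, map_mul, Equiv.Perm.mul_apply, hx, hy]
    | inv x _ hx =>
      intro c
      rw [map_inv, map_inv, ← hx, ← Equiv.Perm.mul_apply, mul_inv_cancel, Equiv.Perm.one_apply]
  have hreach : ∀ d, ∀ c : Fin D.n, Q c / 33554432 = d → c ∈ B →
      π c ∈ MulAction.orbit (sub rels Sg) (π ⟨root, hroot.1⟩) := by
    intro d
    induction d using Nat.strong_induction_on with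
    | _ d ih =>
      intro c hd hc
      have h1 := hO c c.2
      simp only [checkOrbit, show O.testBit (c : Nat) = true from hc, Bool.not_true,
        Bool.false_or, Bool.and_eq_true, Bool.or_eq_true, force_eq] at h1
      rcases h1.2 with h2 | ⟨hp, hpB, hlt, hk, hT⟩
      · have : c = ⟨root, hroot.1⟩ := Fin.ext (Nat.eq_of_beq_eq_true h2)
        rw [this]; exact MulAction.mem_orbit_self _
      · have hp' := Nat.ble_eq.mp hp
        have hprev := ih _ (hd ▸ Nat.ble_eq.mp hlt) ⟨_, hp'⟩ rfl hpB
        obtain ⟨hmem⟩ : Nonempty (((D.W.drop D.nR).getD (Q c % 32) []) ∈ D.W.drop D.nR) := by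
          rw [List.getD_eq_getElem _ _ (Nat.ble_eq.mp hk)]
          exact ⟨List.getElem_mem _⟩
        generalize (D.W.drop D.nR).getD (Q c % 32) [] = w at hmem hT
        rw [S.drop_eq, List.mem_map] at hmem
        obtain ⟨s, hs, rfl⟩ := hmem
        have hsH : PresentedGroup.mk rels s ∈ sub rels Sg :=
          Subgroup.mem_map_of_mem _ (Subgroup.subset_closure hs)
        have hc' : c = (φ (PresentedGroup.mk rels s))⁻¹ ⟨_, hp'⟩ := by
          apply Fin.ext
          rw [hgens s hs]
          exact (Nat.eq_of_beq_eq_true hT).symm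
        rw [hc', ← map_inv φ, hπ]
        exact MulAction.mem_orbit_of_mem_orbit
          (⟨_, Subgroup.inv_mem _ hsH⟩ : sub rels Sg) hprev
  have horb : MulAction.orbit (sub rels Sg) (π ⟨root, hroot.1⟩) = π '' B := by
    ext a
    constructor
    · rintro ⟨⟨g, hg⟩, rfl⟩
      refine ⟨φ g ⟨root, hroot.1⟩, (hclosed g hg _).2 hroot.2, ?_⟩
      exact hπ g _
    · rintro ⟨c, hc, rfl⟩
      exact hreach _ c rfl hc
  exact horb

theorem exists_orbit (h : D.Valid) (S : Spells D rels Sg enc dec RL) (O root : Nat)
    (Q : Nat → Nat) (hroot : root < D.n ∧ O.testBit root = true)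
    (hO : ∀ c, c < D.n → D.checkOrbit O root Q c = true) :
    ∃ q : PresentedGroup rels ⧸ sub rels Sg,
      (MulAction.orbit (sub rels Sg) q).ncard = count O D.n := by
  obtain ⟨φ, π, hπ, hfwd⟩ := enumeration h S
  exact ⟨π ⟨root, hroot.1⟩, by
    rw [orbit_eq h S φ π hπ hfwd O root Q hroot hO,
      Set.ncard_image_of_injective _ π.injective, count_eq]⟩

/-- Two suborbits given by bit sets, the root of the second outside the first, are distinct. -/
theorem exists_orbit_pair (h : D.Valid) (S : Spells D rels Sg enc dec RL)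
    (O₁ r₁ : Nat) (Q₁ : Nat → Nat) (h₁ : r₁ < D.n ∧ O₁.testBit r₁ = true)
    (hO₁ : ∀ c, c < D.n → D.checkOrbit O₁ r₁ Q₁ c = true)
    (O₂ r₂ : Nat) (Q₂ : Nat → Nat) (h₂ : r₂ < D.n ∧ O₂.testBit r₂ = true)
    (hO₂ : ∀ c, c < D.n → D.checkOrbit O₂ r₂ Q₂ c = true) (hne : O₁.testBit r₂ = false) :
    ∃ q₁ q₂ : PresentedGroup rels ⧸ sub rels Sg,
      MulAction.orbit (sub rels Sg) q₁ ≠ MulAction.orbit (sub rels Sg) q₂ ∧
      (MulAction.orbit (sub rels Sg) q₁).ncard = count O₁ D.n ∧
      (MulAction.orbit (sub rels Sg) q₂).ncard = count O₂ D.n := by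
  obtain ⟨φ, π, hπ, hfwd⟩ := enumeration h S
  have e₁ := orbit_eq h S φ π hπ hfwd O₁ r₁ Q₁ h₁ hO₁
  have e₂ := orbit_eq h S φ π hπ hfwd O₂ r₂ Q₂ h₂ hO₂
  refine ⟨π ⟨r₁, h₁.1⟩, π ⟨r₂, h₂.1⟩, ?_, ?_, ?_⟩
  · intro he
    have hmem : π ⟨r₂, h₂.1⟩ ∈ π '' {c : Fin D.n | O₁.testBit c} := by
      rw [← e₁, he]; exact MulAction.mem_orbit_self _
    obtain ⟨c, hc, hcr⟩ := hmem
    obtain rfl := π.injective hcr
    exact Bool.false_ne_true (hne.symm.trans hc)
  · rw [e₁, Set.ncard_image_of_injective _ π.injective, count_eq]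
  · rw [e₂, Set.ncard_image_of_injective _ π.injective, count_eq]

end main

end Data

end Cfsg.Agent.CosetCert
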