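import Mathlib
import Cfsg.Prelude.Def_SporCoxeter
import Cfsg.Agent.CosetCert.Group

/-!
Certificates for presentations on involutions: the numeric words of a Coxeter-graph presentation.
-/

namespace Cfsg.Agent.CosetCert

open Cfsg.Spor

variable {β : Type*} [DecidableEq β]

/-- The unordered pairs from a list. -/
def pairsOf : List β → List (β × β)
  | [] => []
  | x :: t => (x :: t).map (fun y => (x, y)) ++ pairsOf t

/-- `(xy)^m` as a signed word. -/
def powPair (x y : β) : Nat → List (β × Bool)
  | 0 => []
  | m + 1 => (x, true) :: (y, true) :: powPair x y m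

omit [DecidableEq β] in
theorem mk_powPair (x y : β) (m : Nat) :
    FreeGroup.mk (powPair x y m) = (FreeGroup.of x * FreeGroup.of y) ^ m := by
  induction m with
  | zero => rfl
  | succ m ih =>
    rw [pow_succ', ← ih, FreeGroup.of, FreeGroup.of, FreeGroup.mul_mk, FreeGroup.mul_mk]
    rfl

/-- The relator words of a Coxeter-graph presentation. -/
def coxWords (gens : List β) (edges : List (β × ℕ × β)) (extra : List (FreeGroup β)) :
    List (List (β × Bool)) :=
  ((pairsOf gens).map fun p => powPair p.1 p.2 (coxLabel edges p.1 p.2)) ++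
    extra.map FreeGroup.toWord

theorem coxLabel_comm (edges : List (β × ℕ × β)) (x y : β) :
    coxLabel edges x y = coxLabel edges y x := by
  unfold coxLabel
  rw [show (fun e : β × ℕ × β => decide ((e.1 = x ∧ e.2.2 = y) ∨ (e.1 = y ∧ e.2.2 = x))) =
    (fun e : β × ℕ × β => decide ((e.1 = y ∧ e.2.2 = x) ∨ (e.1 = x ∧ e.2.2 = y))) from
      funext fun e => decide_eq_decide.2 or_comm]
  by_cases h : x = y
  · subst h; rfl
  · rw [if_neg h, if_neg (Ne.symm h)]

theorem spells_cox (D : Data) (gens : List β) (edges : List (β × ℕ × β))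
    (extra Sg : List (FreeGroup β)) (enc : β → Nat) (dec : Nat → β × Bool)
    (hnodes : ∀ b, b ∈ coxNodes edges)
    (henc : ∀ b, enc b < D.K ∧ dec (enc b) = (b, true) ∧ D.iv (enc b) = enc b)
    (hdec : ∀ x, x < D.K → (dec x).2 = true ∧ enc (dec x).1 = x ∧ D.iv x = x)
    (hgens : ∀ b, b ∈ gens)
    (htake : D.W.take D.nR = (coxWords gens edges extra).map (List.map (Data.code D.iv enc)) ++
      ([] :: (List.range D.K).map fun x => [x, D.iv x]))
    (hdrop : D.W.drop D.nR = Sg.map fun s => s.toWord.map (Data.code D.iv enc)) :
    Data.Spells D (coxRelators edges ∪ {r | r ∈ extra}) Sg enc dec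
      (coxWords gens edges extra) := by
  have hsq : ∀ b : β, FreeGroup.of b * FreeGroup.of b ∈ coxRelators edges ∪ {r | r ∈ extra} := by
    intro b
    exact Or.inl ⟨b, hnodes b, b, hnodes b, by simp [coxLabel]⟩
  refine
    { enc_lt := fun b => ⟨(henc b).1, (henc b).2.1⟩
      inv_letter := ?_
      rels_one := ?_
      rels_mem := ?_
      take_eq := htake
      code_dec := ?_
      drop_eq := hdrop }
  · intro x hx
    rw [(hdec x hx).2.2, ← map_mul]
    obtain ⟨h2, -, -⟩ := hdec x hx
    have : dec x = ((dec x).1, true) := Prod.ext rfl h2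
    rw [this]
    exact PresentedGroup.one_of_mem (hsq _)
  · intro l hl
    apply PresentedGroup.one_of_mem
    rcases List.mem_append.1 hl with hl | hl
    · obtain ⟨p, hp, rfl⟩ := List.mem_map.1 hl
      exact Or.inl ⟨p.1, hnodes _, p.2, hnodes _, mk_powPair _ _ _⟩
    · obtain ⟨r, hr, rfl⟩ := List.mem_map.1 hl
      exact Or.inr (by rwa [FreeGroup.mk_toWord])
  · rintro r (⟨x, -, y, -, rfl⟩ | hr)
    · have key : ∀ l : List β, x ∈ l → y ∈ l → (x, y) ∈ pairsOf l ∨ (y, x) ∈ pairsOf l := by
        intro l
        induction l with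
        | nil => intro h; exact absurd h (List.not_mem_nil)
        | cons z t ih =>
          intro hx hy
          simp only [pairsOf, List.mem_append, List.mem_map]
          rcases List.mem_cons.1 hx with rfl | hx'
          · exact Or.inl (Or.inl ⟨y, hy, rfl⟩)
          · rcases List.mem_cons.1 hy with rfl | hy'
            · exact Or.inr (Or.inl ⟨x, hx, rfl⟩)
            · exact (ih hx' hy').imp Or.inr Or.inr
      have hin : ∀ a b, (a, b) ∈ pairsOf gens →
          (FreeGroup.of a * FreeGroup.of b) ^ coxLabel edges a b ∈
            Subgroup.normalClosure {r | r ∈ (coxWords gens edges extra).map FreeGroup.mk} := by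
        intro a b hab
        apply Subgroup.subset_normalClosure
        rw [← mk_powPair]
        exact List.mem_map_of_mem (List.mem_append_left _
          (List.mem_map.2 ⟨(a, b), hab, rfl⟩))
      rcases key gens (hgens x) (hgens y) with h | h
      · exact hin x y h
      · have h' := (Subgroup.normalClosure_normal).conj_mem _ (hin y x h) (FreeGroup.of y)⁻¹
        rw [inv_inv] at h'
        have e : (FreeGroup.of y)⁻¹ * (FreeGroup.of y * FreeGroup.of x) ^ coxLabel edges y x *
            FreeGroup.of y = (FreeGroup.of x * FreeGroup.of y) ^ coxLabel edges x y := by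
          have := conj_pow (a := (FreeGroup.of y)⁻¹) (b := FreeGroup.of y * FreeGroup.of x)
            (i := coxLabel edges y x)
          rw [inv_inv] at this
          rw [← this, coxLabel_comm edges y x]
          group
        rw [e] at h'
        exact h'
    · apply Subgroup.subset_normalClosure
      exact List.mem_map.2 ⟨r.toWord, List.mem_append_right _ (List.mem_map_of_mem hr),
        FreeGroup.mk_toWord⟩
  · intro x hx
    obtain ⟨h2, h1, -⟩ := hdec x hx
    simp [Data.code, h2, h1]

end Cfsg.Agent.CosetCert
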