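import Mathlib
import Cfsg.Agent.CosetCert.Group

/-!
Upper bounds from coset enumerations: these need neither the relators nor the subgroup to be
checked on the table, only the log and the closedness of the table.
-/

namespace Cfsg.Agent.CosetCert

namespace Data

/-- The part of a certificate needed for an upper bound on the index. -/
structure LogValid (D : Data) : Prop where
  n_pos : 0 < D.n
  root : D.L 0 = 0
  log : ∀ i, i < D.Nf → D.checkLog i = true
  coset : ∀ c, c < D.n → D.checkCoset c = true
  iv_iv : ∀ x, x < D.K → D.iv (D.iv x) = x ∧ D.iv x < D.K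
  iv_big : ∀ x, D.K ≤ x → D.iv x = x
  pw : ∀ k, k < D.W.length → D.PW k = pack (D.W.getD k [])
  letters : D.W.all (fun w => w.all fun x => Nat.blt x D.K) = true
  K_small : D.K < 31
  nR_le : D.nR ≤ D.W.length

variable {D : Data}

theorem LogValid.letters_lt (h : D.LogValid) {w : List Nat} (hw : w ∈ D.W) : ∀ x ∈ w, x < D.K :=
  fun x hx => Nat.ble_eq.mp (List.all_eq_true.1 (List.all_eq_true.1 h.letters w hw) x hx)

theorem LogValid.edge_fact {α : Type*} {σ : Nat → α → α} {q : Nat → α} (h : D.LogValid) {c x : Nat}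
    (hc : c < D.n) (hx : x < D.K) (hσ : ∀ y a, σ (D.iv y) (σ y a) = a)
    (hq : ∀ i, i < D.Nf → Holds σ D.F q i) : q (D.L (D.T c x)) = σ x (q (D.L c)) := by
  have h1 := (Bool.and_eq_true_iff.1 (h.coset c hc)).1
  have h2 := (allFrom_iff _ _ _).1 h1 x (Nat.zero_le _) (by omega)
  simp only [checkEdge, force_eq, gate_eq, Nat.add_eq, Nat.mul_eq] at h2
  change ((_ && ((Nat.blt (D.T c x) D.n) && _)) = true) at h2
  simp only [Bool.and_eq_true] at h2
  obtain ⟨hi, -, -, hfact⟩ := h2
  rw [show Nat.mod (D.E (c * D.K + x)) 1048576 = D.T c x from rfl] at hfact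
  have hh := hq _ (Nat.ble_eq.mp hi)
  unfold Holds at hh
  generalize Nat.div (D.E (c * D.K + x)) 1048576 = it at hh hfact
  generalize D.F (Nat.div it 2) = f at hh hfact
  generalize D.L (D.T c x) = l at hfact ⊢
  generalize D.L c = m at hfact ⊢
  cases hb : Nat.beq (Nat.mod it 2) 0 <;> rw [hb] at hfact
  · simp only [Bool.and_eq_true] at hfact
    obtain rfl := Nat.eq_of_beq_eq_true hfact.1
    obtain rfl := Nat.eq_of_beq_eq_true hfact.2.1
    obtain rfl := Nat.eq_of_beq_eq_true hfact.2.2
    rw [hh, hσ]
  · simp only [Bool.and_eq_true] at hfact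
    obtain rfl := Nat.eq_of_beq_eq_true hfact.1
    obtain rfl := Nat.eq_of_beq_eq_true hfact.2.1
    obtain rfl := Nat.eq_of_beq_eq_true hfact.2.2
    rw [hh]

variable {β : Type*} [DecidableEq β] {rels : Set (FreeGroup β)} {Sg : List (FreeGroup β)}
  {enc : β → Nat} {dec : Nat → β × Bool} {RL : List (List (β × Bool))}

theorem exists_cover (h : D.LogValid) (S : Spells D rels Sg enc dec RL) :
    ∃ π : Fin D.n → PresentedGroup rels ⧸ sub rels Sg, Function.Surjective π := by
  classical
  have henc := fun b => (S.enc_lt b).1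
  -- letters
  let G := PresentedGroup rels
  let lt : Nat → G := fun x => if x < D.K then PresentedGroup.mk rels (FreeGroup.mk [dec x]) else 1
  let σ : Nat → G ⧸ sub rels Sg → G ⧸ sub rels Sg := fun x a => (lt x)⁻¹ • a
  have hltinv : ∀ x, x < D.K → lt (D.iv x) = (lt x)⁻¹ := by
    intro x hx
    apply eq_inv_of_mul_eq_one_left
    simp only [lt, if_pos hx, if_pos (h.iv_iv x hx).2]
    exact S.inv_letter x hx
  have hltcode : ∀ a : β × Bool, lt (code D.iv enc a) = PresentedGroup.mk rels (FreeGroup.mk [a]) := by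
    rintro ⟨b, _ | _⟩
    · have : code D.iv enc (b, false) = D.iv (enc b) := rfl
      rw [this, hltinv _ (henc b)]
      simp only [lt, if_pos (henc b), (S.enc_lt b).2]
      rw [← map_inv, FreeGroup.inv_mk]; rfl
    · have : code D.iv enc (b, true) = enc b := rfl
      rw [this]; simp only [lt, if_pos (henc b), (S.enc_lt b).2]
  have hσK : ∀ z, σ D.K z = z := fun z => by simp [σ, lt]
  have hinj : ∀ x, Function.Injective (σ x) := fun x => MulAction.injective _
  have happ : ∀ (w : List Nat) a, app σ w a = ((w.map lt).prod)⁻¹ • a := by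
    intro w
    induction w with
    | nil => intro a; simp
    | cons x t ih => intro a; simp [ih, σ, mul_smul]
  have happcode : ∀ (l : List (β × Bool)) a,
      app σ (l.map (code D.iv enc)) a =
        (PresentedGroup.mk rels (FreeGroup.mk l))⁻¹ • a := by
    intro l a
    rw [happ]
    congr 2
    induction l with
    | nil => exact (map_one _).symm
    | cons b t ih =>
      have : FreeGroup.mk (b :: t) = FreeGroup.mk [b] * FreeGroup.mk t := by
        rw [FreeGroup.mul_mk]; rfl
      rw [List.map_cons, List.map_cons, List.prod_cons, ih, hltcode, this, map_mul]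
  have hleft : ∀ x a, σ (D.iv x) (σ x a) = a := by
    intro x a
    by_cases hx : x < D.K
    · simp [σ, hltinv x hx]
    · simp [σ, lt, h.iv_big x (Nat.le_of_not_lt hx), hx]
  -- words of the log
  have hrelone := S.rels_one
  have hR : ∀ k, k < D.nR → ∀ a, app σ (D.W.getD k []) a = a := by
    intro k hk a
    by_cases hlen : k < D.W.length
    · have hmem : D.W.getD k [] ∈ D.W.take D.nR := by
        rw [List.getD_eq_getElem _ _ hlen, List.mem_take_iff_getElem]
        exact ⟨k, lt_min hk hlen, rfl⟩
      generalize D.W.getD k [] = w at hmem ⊢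
      rw [S.take_eq, List.mem_append, List.mem_cons, List.mem_map, List.mem_map] at hmem
      rcases hmem with ⟨l, hl, rfl⟩ | rfl | ⟨x, -, rfl⟩
      · rw [happcode, hrelone l hl, inv_one, one_smul]
      · rfl
      · simp [hleft]
    · rw [List.getD_eq_default _ _ (Nat.le_of_not_lt hlen)]; rfl
  let a0 : G ⧸ sub rels Sg := ((1 : G) : G ⧸ sub rels Sg)
  have hfix0 : ∀ g ∈ sub rels Sg, g • a0 = a0 := by
    intro g hg
    show ((g * 1 : G) : G ⧸ sub rels Sg) = ((1 : G) : G ⧸ sub rels Sg)
    rw [QuotientGroup.eq]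
    simpa using hg
  have hS : ∀ k, app σ (D.W.getD k []) a0 = a0 := by
    intro k
    by_cases hk : k < D.nR
    · exact hR k hk a0
    by_cases hlen : k < D.W.length
    · have hmem : D.W.getD k [] ∈ D.W.drop D.nR := by
        rw [List.getD_eq_getElem _ _ hlen, List.mem_drop_iff_getElem]
        exact ⟨k - D.nR, by omega, by congr 1; omega⟩
      generalize D.W.getD k [] = w at hmem ⊢
      rw [S.drop_eq, List.mem_map] at hmem
      obtain ⟨s, hs, rfl⟩ := hmem
      rw [happcode, FreeGroup.mk_toWord]
      exact hfix0 _ (Subgroup.inv_mem _ (Subgroup.mem_map_of_mem _ (Subgroup.subset_closure hs)))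
    · rw [List.getD_eq_default _ _ (Nat.le_of_not_lt hlen)]; rfl
  -- the points of the log
  let q : Nat → G ⧸ sub rels Sg := points D σ a0
  have hq : ∀ i, i < D.Nf → Holds σ D.F q i := by
    intro i
    induction i using Nat.strong_induction_on with
    | _ i ih =>
      intro hi
      have hc := h.log i hi
      simp only [checkLog] at hc
      cases hm : Nat.blt i D.M <;> rw [hm] at hc
      · exact checkFact_sound σ D.iv hleft (W := D.W) hσK hinj (fun k hk => ⟨h.pw k hk, fun x hx => lt_trans (LogValid.letters_lt h (w := D.W.getD k []) (by rw [List.getD_eq_getElem _ _ hk]; exact List.getElem_mem _) x (by exact hx)) h.K_small⟩) h.nR_le hR (fun k => by rw [show q 0 = a0 from points_zero]; exact hS k)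
          (fun m hm => ih m hm (hm.trans hi)) hc
      · exact holds_points hc
  have hedge : ∀ (x : Nat) (c : Fin D.n), x < D.K → q (D.L (D.T c x)) = σ x (q (D.L c)) :=
    fun x c hx => LogValid.edge_fact h c.2 hx hleft hq
  let π : Fin D.n → G ⧸ sub rels Sg := fun c => q (D.L c)
  refine ⟨π, ?_⟩
  have hmaps : ∀ b, Set.MapsTo (fun a => (PresentedGroup.of b : G)⁻¹ • a) (Set.range π)
      (Set.range π) := by
    rintro b _ ⟨c, rfl⟩
    have hx := henc b
    have hlt : D.T c (enc b) < D.n := by
      have h1 := (Bool.and_eq_true_iff.1 (h.coset c c.2)).1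
      have h2 := (allFrom_iff _ _ _).1 h1 (enc b) (Nat.zero_le _) (by omega)
      simp only [checkEdge, force_eq, gate_eq, Bool.and_eq_true] at h2
      exact Nat.ble_eq.mp h2.2.1
    refine ⟨⟨_, hlt⟩, ?_⟩
    show q _ = (PresentedGroup.of b : G)⁻¹ • q _
    rw [hedge _ c hx]
    show (lt (enc b))⁻¹ • _ = _
    rw [show lt (enc b) = PresentedGroup.of b from
      (by simp only [lt, if_pos hx, (S.enc_lt b).2]; rfl)]
  have hclosed : ∀ g : G, ∀ a, g • a ∈ Set.range π ↔ a ∈ Set.range π := by
    intro g
    have hmem : g ∈ Subgroup.closure (Set.range (PresentedGroup.of : β → G)) := by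
      rw [PresentedGroup.closure_range_of]; trivial
    induction hmem using Subgroup.closure_induction with
    | mem x hx =>
      obtain ⟨b, rfl⟩ := hx
      intro a
      constructor
      · intro ha
        have := hmaps b ha
        simpa only [inv_smul_smul] using this
      · intro ha
        have himg : (fun a => (PresentedGroup.of b : G)⁻¹ • a) '' Set.range π = Set.range π :=
          Set.eq_of_subset_of_ncard_le (hmaps b).image_subset
            (Set.ncard_image_of_injective _ (MulAction.injective _)).ge (Set.finite_range π)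
        obtain ⟨d, hd, hda⟩ := himg.symm.subset ha
        rw [← hda, smul_inv_smul]
        exact hd
    | one => simp
    | mul x y _ _ hx hy => intro a; rw [mul_smul, hx, hy]
    | inv x _ hx => intro a; rw [← hx, smul_inv_smul]
  intro a
  induction a using QuotientGroup.induction_on with
  | _ g =>
    have h0 : a0 ∈ Set.range π := ⟨⟨0, h.n_pos⟩, by
      show q (D.L 0) = a0
      rw [h.root]; exact points_zero⟩
    have := (hclosed g a0).2 h0
    have e : g • a0 = ((g : G) : G ⧸ sub rels Sg) := by
      show ((g * 1 : G) : G ⧸ sub rels Sg) = _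
      rw [mul_one]
    rwa [e] at this

theorem index_le (h : D.LogValid) (S : Spells D rels Sg enc dec RL) :
    (sub rels Sg).index ≠ 0 ∧ (sub rels Sg).index ≤ D.n := by
  obtain ⟨π, hπ⟩ := exists_cover h S
  have : Finite (PresentedGroup rels ⧸ sub rels Sg) := Finite.of_surjective π hπ
  exact ⟨Nat.card_ne_zero.2 ⟨inferInstance, this⟩,
    (Nat.card_le_card_of_surjective π hπ).trans (Nat.card_fin _).le⟩

end Data

/-- One step of a chain: a subgroup of index at most `n` whose image is small makes the image
of the whole group small. -/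
theorem card_range_le {P G : Type*} [Group P] [Group G] (ψ : P →* G) (H : Subgroup P) {n m : Nat}
    (hn : H.index ≠ 0 ∧ H.index ≤ n) {T : Subgroup G} (hT : Finite T ∧ Nat.card T ≤ m)
    (hH : H.map ψ ≤ T) : Finite ψ.range ∧ Nat.card ψ.range ≤ n * m := by
  have : Finite T := hT.1
  have hfin : Finite (P ⧸ H) := (Nat.card_ne_zero.1 hn.1).2
  let f : (P ⧸ H) × T → G := fun p => ψ p.1.out * p.2
  have hsub : (ψ.range : Set G) ⊆ Set.range f := by
    rintro _ ⟨p, rfl⟩
    have hmem : ((p : P ⧸ H)).out⁻¹ * p ∈ H :=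
      QuotientGroup.eq.1 (QuotientGroup.out_eq' (p : P ⧸ H))
    refine ⟨((p : P ⧸ H), ⟨_, hH (Subgroup.mem_map_of_mem ψ hmem)⟩), ?_⟩
    show ψ _ * ψ _ = ψ p
    rw [← map_mul, mul_inv_cancel_left]
  have hfin' : Set.Finite (ψ.range : Set G) := (Set.finite_range f).subset hsub
  refine ⟨hfin'.to_subtype, ?_⟩
  calc Nat.card ψ.range = (ψ.range : Set G).ncard := Nat.card_coe_set_eq _
    _ ≤ (Set.range f).ncard := Set.ncard_le_ncard hsub (Set.finite_range f)
    _ = Nat.card (Set.range f) := (Nat.card_coe_set_eq _).symm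
    _ ≤ Nat.card ((P ⧸ H) × T) := Finite.card_range_le f
    _ = H.index * Nat.card T := by rw [Nat.card_prod]; rfl
    _ ≤ n * m := Nat.mul_le_mul hn.2 hT.2

end Cfsg.Agent.CosetCert
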