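import Mathlib
import Cfsg.Agent.CosetCert.Cox
import Cfsg.Agent.CosetCert.Upper

/-!
Chains of presented groups on fewer and fewer generators, for upper bounds on orders.
-/

namespace Cfsg.Agent.CosetCert

/-- The set of relators given by signed words. -/
def wordRels {β : Type*} (RL : List (List (β × Bool))) : Set (FreeGroup β) :=
  {r | r ∈ RL.map FreeGroup.mk}

variable {β : Type*} [DecidableEq β]

/-- A presentation by signed words on involutions is spelled by numeric words. -/
theorem spells_words (D : Data) (RL : List (List (β × Bool))) (Sg : List (FreeGroup β))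
    (enc : β → Nat) (dec : Nat → β × Bool)
    (henc : ∀ b, enc b < D.K ∧ dec (enc b) = (b, true) ∧ D.iv (enc b) = enc b)
    (hdec : ∀ x, x < D.K → (dec x).2 = true ∧ enc (dec x).1 = x ∧ D.iv x = x)
    (hsq : ∀ b : β, [(b, true), (b, true)] ∈ RL)
    (htake : D.W.take D.nR = RL.map (List.map (Data.code D.iv enc)) ++
      ([] :: (List.range D.K).map fun x => [x, D.iv x]))
    (hdrop : D.W.drop D.nR = Sg.map fun s => s.toWord.map (Data.code D.iv enc)) :
    Data.Spells D (wordRels RL) Sg enc dec RL where
  enc_lt b := ⟨(henc b).1, (henc b).2.1⟩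
  inv_letter x hx := by
    rw [(hdec x hx).2.2, ← map_mul, FreeGroup.mul_mk]
    obtain ⟨h2, -, -⟩ := hdec x hx
    rw [show dec x = ((dec x).1, true) from Prod.ext rfl h2]
    exact PresentedGroup.one_of_mem (List.mem_map_of_mem (hsq _))
  rels_one l hl := PresentedGroup.one_of_mem (List.mem_map_of_mem hl)
  rels_mem := Subgroup.subset_normalClosure
  take_eq := htake
  code_dec x hx := by
    obtain ⟨h2, h1, -⟩ := hdec x hx
    simp [Data.code, h2, h1]
  drop_eq := hdrop

/-- A renaming of generators that sends relator words to relations is a homomorphism. -/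
theorem exists_rename {γ : Type*} {rels : Set (FreeGroup γ)} (RL : List (List (β × Bool)))
    (f : β → γ)
    (h : ∀ l ∈ RL, PresentedGroup.mk rels (FreeGroup.mk (l.map fun a => (f a.1, a.2))) = 1) :
    ∃ ψ : PresentedGroup (wordRels RL) →* PresentedGroup rels,
      ∀ w, ψ (PresentedGroup.mk (wordRels RL) w) = PresentedGroup.mk rels (FreeGroup.map f w) := by
  have hr : ∀ r ∈ wordRels RL,
      FreeGroup.lift (fun b => (PresentedGroup.of (f b) : PresentedGroup rels)) r = 1 := by
    intro r hr
    obtain ⟨l, hl, rfl⟩ := List.mem_map.1 hr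
    rw [← h l hl]
    have : (FreeGroup.lift fun b => (PresentedGroup.of (f b) : PresentedGroup rels)) =
        (PresentedGroup.mk rels).comp (FreeGroup.map f) := FreeGroup.ext_hom _ _ fun b => by simp [PresentedGroup.of]
    rw [this, MonoidHom.comp_apply, FreeGroup.map.mk]
  refine ⟨PresentedGroup.toGroup hr, fun w => ?_⟩
  have : (PresentedGroup.toGroup hr).comp (PresentedGroup.mk (wordRels RL)) =
      (PresentedGroup.mk rels).comp (FreeGroup.map f) :=
    FreeGroup.ext_hom _ _ fun b => by
      simp only [MonoidHom.comp_apply, FreeGroup.map.of]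
      exact PresentedGroup.toGroup.of hr
  exact DFunLike.congr_fun this w

/-- The subgroup of `PresentedGroup rels` generated by some of its generators. -/
def letterSub {γ : Type*} (rels : Set (FreeGroup γ)) (l : List γ) :
    Subgroup (PresentedGroup rels) :=
  Subgroup.closure {g | ∃ b ∈ l, g = PresentedGroup.of b}

/-- One step down a chain: the subgroup on the generators `f b`, all `b`, has order at most
`n * m` if the subgroup on the `f b`, `b ∈ S`, has order at most `m`. -/
theorem letterSub_card_le {γ : Type*} {rels : Set (FreeGroup γ)}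
    {RL : List (List (β × Bool))} (f : β → γ) (all : List β) (S : List β) (next : List γ)
    (hnext : S.map f = next) (hall : ∀ b, b ∈ all)
    (h : ∀ l ∈ RL, PresentedGroup.mk rels (FreeGroup.mk (l.map fun a => (f a.1, a.2))) = 1)
    {n m : Nat}
    (hn : (Data.sub (wordRels RL) (S.map FreeGroup.of)).index ≠ 0 ∧
      (Data.sub (wordRels RL) (S.map FreeGroup.of)).index ≤ n)
    (hT : Finite (letterSub rels next) ∧ Nat.card (letterSub rels next) ≤ m) :
    Finite (letterSub rels (all.map f)) ∧ Nat.card (letterSub rels (all.map f)) ≤ n * m := by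
  obtain ⟨ψ, hψ⟩ := exists_rename RL f h
  have hH : (Data.sub (wordRels RL) (S.map FreeGroup.of)).map ψ ≤ letterSub rels next := by
    rw [Data.sub, Subgroup.map_map, MonoidHom.map_closure, Subgroup.closure_le]
    rintro _ ⟨w, hw, rfl⟩
    obtain ⟨b, hb, rfl⟩ := List.mem_map.1 hw
    apply Subgroup.subset_closure
    refine ⟨f b, hnext ▸ List.mem_map_of_mem hb, ?_⟩
    rw [MonoidHom.comp_apply, hψ, FreeGroup.map.of]; rfl
  have hr : ψ.range = letterSub rels (all.map f) := by
    rw [MonoidHom.range_eq_map, ← PresentedGroup.closure_range_of, MonoidHom.map_closure]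
    apply congrArg Subgroup.closure
    ext g
    constructor
    · rintro ⟨_, ⟨b, rfl⟩, rfl⟩
      exact ⟨f b, List.mem_map_of_mem (hall b), (hψ _).trans (by rw [FreeGroup.map.of]; rfl)⟩
    · rintro ⟨c, hc, rfl⟩
      obtain ⟨b, -, rfl⟩ := List.mem_map.1 hc
      exact ⟨_, ⟨b, rfl⟩, (hψ _).trans (by rw [FreeGroup.map.of]; rfl)⟩
  rw [← hr]
  exact card_range_le ψ _ hn hT hH

theorem letterSub_nil_card {γ : Type*} (rels : Set (FreeGroup γ)) :
    Finite (letterSub rels []) ∧ Nat.card (letterSub rels []) ≤ 1 := by
  have : letterSub rels [] = ⊥ := by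
    rw [letterSub, Subgroup.closure_eq_bot_iff]
    rintro g ⟨b, hb, -⟩
    exact absurd hb List.not_mem_nil
  rw [this]
  exact ⟨inferInstance, by simp⟩

omit [DecidableEq β] in
theorem letterSub_full {rels : Set (FreeGroup β)} (l : List β) (hl : ∀ b, b ∈ l) :
    letterSub rels l = ⊤ := by
  rw [← PresentedGroup.closure_range_of, letterSub]
  apply congrArg Subgroup.closure
  ext g
  exact ⟨fun ⟨b, _, h⟩ => ⟨b, h.symm⟩, fun ⟨b, h⟩ => ⟨b, hl b, h.symm⟩⟩

/-- The group itself has order at most `n * m` if the subgroup on the generators `next` has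
index at most `n` and order at most `m`. -/
theorem card_le_top {rels : Set (FreeGroup β)} {Sg : List (FreeGroup β)}
    (next : List β) (hSg : Sg = next.map FreeGroup.of) {n m : Nat}
    (hn : (Data.sub rels Sg).index ≠ 0 ∧ (Data.sub rels Sg).index ≤ n)
    (hT : Finite (letterSub rels next) ∧ Nat.card (letterSub rels next) ≤ m) :
    Finite (PresentedGroup rels) ∧ Nat.card (PresentedGroup rels) ≤ n * m := by
  have hH : (Data.sub rels Sg).map (MonoidHom.id (PresentedGroup rels)) ≤ letterSub rels next := by
    subst hSg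
    rw [Subgroup.map_id, Data.sub, MonoidHom.map_closure, Subgroup.closure_le]
    rintro _ ⟨w, hw, rfl⟩
    obtain ⟨b, hb, rfl⟩ := List.mem_map.1 hw
    exact Subgroup.subset_closure ⟨b, hb, rfl⟩
  obtain ⟨hfin, hle⟩ := card_range_le (MonoidHom.id (PresentedGroup rels)) _ hn hT hH
  have hr : (MonoidHom.id (PresentedGroup rels)).range = ⊤ :=
    MonoidHom.range_eq_top.2 fun g => ⟨g, rfl⟩
  rw [hr] at hfin hle
  exact ⟨Finite.of_equiv _ Subgroup.topEquiv.toEquiv,
    by rwa [Nat.card_congr Subgroup.topEquiv.toEquiv] at hle⟩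

end Cfsg.Agent.CosetCert
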