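import Mathlib
import Cfsg.Agent.CosetCert.Group

/-! Decoding of packed certificate stores. -/

namespace Cfsg.Agent.CosetCert

/-- Entries of 48 bits, 128 to a leaf. -/
noncomputable def get48 (S : Store) (i : Nat) : Nat :=
  force (S.get (Nat.div i 128)) fun v =>
    Nat.land (Nat.shiftRight v (Nat.mul 48 (Nat.mod i 128))) 281474976710655

/-- Entries of varying width, 64 to a leaf, behind 65 offsets of 20 bits each. -/
noncomputable def getVar (S : Store) (i : Nat) : Nat :=
  force (S.get (Nat.div i 64)) fun v => force (Nat.mod i 64) fun r =>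
    force (Nat.land (Nat.shiftRight v (Nat.mul 20 r)) 1048575) fun a =>
    force (Nat.land (Nat.shiftRight v (Nat.mul 20 (Nat.succ r))) 1048575) fun b =>
      Nat.mod (Nat.shiftRight v (Nat.add 1300 a)) (Nat.pow 2 (Nat.sub b a))

end Cfsg.Agent.CosetCert
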