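import Mathlib
import Cfsg.Agent.CosetCert.Pack

/-!
Lower bounds on the order of the image of a presented group in the permutations of its table,
from a base and a point orbit for each level.
-/

namespace Cfsg.Agent.CosetCert

/-- The `k`-th word, or the empty one. -/
noncomputable def word (W : List (List Nat)) (k : Nat) : List Nat :=
  List.rec (fun _ => []) (fun w _ ih k => Nat.rec w (fun m _ => ih m) k) W k

theorem word_eq (W : List (List Nat)) : ∀ k, word W k = W.getD k [] := by
  induction W with
  | nil => intro k; rfl
  | cons w t ih =>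
    intro k
    cases k with
    | zero => rfl
    | succ m => rw [List.getD_cons_succ, ← ih]; rfl

namespace Data

variable (D : Data)

/-- One base point: words fixing all earlier base points, and points they reach from it.
`pts j` is `point * 2 ^ 40 + parent * 256 + word`, and `pos` sends a point to its place. -/
structure Level where
  gens : List (List Nat)
  base : Nat
  size : Nat
  pts : Nat → Nat
  pos : Nat → Nat

/-- The words of a level are words fixing the earlier base points. -/
noncomputable def checkGens (bs : List Nat) (L : Level) : Bool :=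
  L.gens.all fun w => (w.all fun x => Nat.blt x D.K) && bs.all fun b => Nat.beq (D.fwd w b) b

/-- The `j`th point of a level is new and is reached from an earlier one. -/
noncomputable def checkPoint (L : Level) (j : Nat) : Bool :=
  force (L.pts j) fun e => force (Nat.div e 1099511627776) fun p =>
    gate (Nat.beq (L.pos p) j) (gate (Nat.blt p D.n)
      (Bool.rec (motive := fun _ => Bool)
        (force (Nat.mod (Nat.div e 256) 4294967296) fun par => force (Nat.mod e 256) fun g =>
          gate (Nat.blt par j) (gate (Nat.blt g L.gens.length)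
            (Nat.beq (D.fwd (word L.gens g) (Nat.div (L.pts par) 1099511627776)) p)))
        (Nat.beq p L.base) (Nat.beq j 0)))

/-- The levels are sound, given the base points before them. -/
def LevelsOK : List Nat → List Level → Prop
  | _, [] => True
  | bs, L :: rest => (L.base < D.n ∧ D.checkGens bs L = true ∧
      ∀ j, j < L.size → D.checkPoint L j = true) ∧ LevelsOK (bs ++ [L.base]) rest

variable {D}

section main

variable {β : Type*} [DecidableEq β] {rels : Set (FreeGroup β)} {Sg : List (FreeGroup β)}
  {enc : β → Nat} {dec : Nat → β × Bool} {RL : List (List (β × Bool))}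

theorem lower_bound (h : D.Valid) (S : Spells D rels Sg enc dec RL)
    (φ : PresentedGroup rels →* Equiv.Perm (Fin D.n))
    (hfwd : ∀ (l : List (β × Bool)) (c : Fin D.n),
      (((φ (PresentedGroup.mk rels (FreeGroup.mk l)))⁻¹ c : Fin D.n) : Nat) =
        D.fwd (l.map (code D.iv enc)) c)
    (levels : List Level) (hok : D.LevelsOK [] levels) :
    (levels.map Level.size).prod ≤ Nat.card φ.range := by
  classical
  let A : List Nat → Subgroup (Equiv.Perm (Fin D.n)) := fun bs =>
    { carrier := {σ | σ ∈ φ.range ∧ ∀ c : Fin D.n, (c : Nat) ∈ bs → σ c = c}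
      one_mem' := ⟨one_mem _, fun _ _ => rfl⟩
      mul_mem' := fun {a b} ha hb => ⟨mul_mem ha.1 hb.1, fun c hc => by
        rw [Equiv.Perm.mul_apply, hb.2 c hc, ha.2 c hc]⟩
      inv_mem' := fun {a} ha => ⟨inv_mem ha.1, fun c hc => by
        rw [Equiv.Perm.inv_eq_iff_eq, ha.2 c hc]⟩ }
  suffices key : ∀ (bs : List Nat) (ls : List Level), D.LevelsOK bs ls →
      (ls.map Level.size).prod ≤ Nat.card (A bs) by
    exact (key [] levels hok).trans (Subgroup.card_le_of_le (fun σ hσ => hσ.1 : A [] ≤ φ.range))
  intro bs ls
  induction ls generalizing bs with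
  | nil =>
    intro _
    have : 0 < Nat.card (A bs) := Nat.card_pos
    simp only [List.map_nil, List.prod_nil]
    omega
  | cons L rest ih =>
    rintro ⟨⟨hb, hg, hp⟩, hrest⟩
    let b : Fin D.n := ⟨L.base, hb⟩
    -- the words of the level lie in `A bs`
    have hword : ∀ w ∈ L.gens, ∃ σ ∈ A bs, ∀ c : Fin D.n, ((σ c : Fin D.n) : Nat) = D.fwd w c := by
      intro w hw
      have h1 := List.all_eq_true.1 hg w hw
      rw [Bool.and_eq_true] at h1
      obtain ⟨h1, h2⟩ := h1
      have hcode : (w.map dec).map (code D.iv enc) = w := by
        rw [List.map_map]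
        conv_rhs => rw [← List.map_id w]
        exact List.map_congr_left fun x hx =>
          S.code_dec x (Nat.ble_eq.mp (List.all_eq_true.1 h1 x hx))
      have happ : ∀ c : Fin D.n,
          (((φ (PresentedGroup.mk rels (FreeGroup.mk (w.map dec))))⁻¹ c : Fin D.n) : Nat) =
            D.fwd w c := fun c => by rw [hfwd, hcode]
      refine ⟨_, ⟨inv_mem ⟨_, rfl⟩, fun c hc => Fin.ext ?_⟩, happ⟩
      rw [happ c]
      exact Nat.eq_of_beq_eq_true (List.all_eq_true.1 h2 _ hc)
    let pt : Nat → Nat := fun j => L.pts j / 1099511627776
    have hspec : ∀ j, j < L.size → pt j < D.n ∧ L.pos (pt j) = j ∧ (j = 0 → pt j = L.base) ∧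
        (j ≠ 0 → ∃ par, par < j ∧ ∃ w ∈ L.gens, D.fwd w (pt par) = pt j) := by
      intro j hj
      have h1 := hp j hj
      simp only [checkPoint, force_eq, gate_eq, Bool.and_eq_true] at h1
      obtain ⟨hpos, hlt, h1⟩ := h1
      refine ⟨Nat.ble_eq.mp hlt, Nat.eq_of_beq_eq_true hpos, ?_, ?_⟩
      · rintro rfl
        exact Nat.eq_of_beq_eq_true h1
      · intro hj0
        have : Nat.beq j 0 = false := by
          cases hbb : Nat.beq j 0
          · rfl
          · exact absurd (Nat.eq_of_beq_eq_true hbb) hj0
        rw [this] at h1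
        simp only [Bool.and_eq_true] at h1
        obtain ⟨hpar, hgl, hT⟩ := h1
        refine ⟨_, Nat.ble_eq.mp hpar, _, ?_, Nat.eq_of_beq_eq_true hT⟩
        rw [word_eq, List.getD_eq_getElem _ _ (Nat.ble_eq.mp hgl)]
        exact List.getElem_mem _
    have horb : ∀ j (hj : j < L.size),
        (⟨pt j, (hspec j hj).1⟩ : Fin D.n) ∈ MulAction.orbit (A bs) b := by
      intro j
      induction j using Nat.strong_induction_on with
      | _ j ihj =>
        intro hj
        rcases eq_or_ne j 0 with rfl | hj0
        · have : (⟨pt 0, (hspec 0 hj).1⟩ : Fin D.n) = b := Fin.ext ((hspec 0 hj).2.2.1 rfl)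
          rw [this]; exact MulAction.mem_orbit_self _
        · obtain ⟨par, hpar, w, hw, hT⟩ := (hspec j hj).2.2.2 hj0
          obtain ⟨σ, hσ, happ⟩ := hword w hw
          have hprev := ihj par hpar (hpar.trans hj)
          have : (⟨pt j, (hspec j hj).1⟩ : Fin D.n) =
              (⟨σ, hσ⟩ : A bs) • (⟨pt par, (hspec par (hpar.trans hj)).1⟩ : Fin D.n) := by
            apply Fin.ext
            show pt j = ((σ _ : Fin D.n) : Nat)
            rw [happ]; exact hT.symm
          rw [this]
          exact MulAction.mem_orbit_of_mem_orbit _ hprev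
    have hcard : L.size ≤ (MulAction.orbit (A bs) b).ncard := by
      have hinj : Function.Injective fun j : Fin L.size =>
          (⟨pt j, (hspec j j.2).1⟩ : Fin D.n) := by
        intro i j hij
        have : pt i = pt j := congrArg Fin.val hij
        apply Fin.ext
        rw [← (hspec i i.2).2.1, ← (hspec j j.2).2.1, this]
      calc L.size = (Set.range fun j : Fin L.size =>
            (⟨pt j, (hspec j j.2).1⟩ : Fin D.n)).ncard := by
            rw [← Nat.card_coe_set_eq, Nat.card_range_of_injective hinj, Nat.card_fin]
        _ ≤ _ := Set.ncard_le_ncard (by rintro _ ⟨j, rfl⟩; exact horb j j.2) (Set.toFinite _)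
    have hstab : Nat.card (A (bs ++ [L.base])) = Nat.card (MulAction.stabilizer (A bs) b) := by
      refine Nat.card_congr
        { toFun := fun σ => ⟨⟨σ.1, σ.2.1, fun c hc => σ.2.2 c (List.mem_append_left _ hc)⟩,
            σ.2.2 b (List.mem_append_right _ (List.mem_singleton.2 rfl))⟩
          invFun := fun σ => ⟨σ.1.1, σ.1.2.1, fun c hc => ?_⟩
          left_inv := fun _ => rfl
          right_inv := fun _ => rfl }
      rcases List.mem_append.1 hc with hc | hc
      · exact σ.1.2.2 c hc
      · have : c = b := Fin.ext (List.mem_singleton.1 hc)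
        rw [this]; exact σ.2
    rw [List.map_cons, List.prod_cons]
    calc L.size * (rest.map Level.size).prod
        ≤ (MulAction.orbit (A bs) b).ncard * Nat.card (A (bs ++ [L.base])) :=
          Nat.mul_le_mul hcard (ih _ hrest)
      _ = Nat.card (A bs) := by
          rw [hstab, ← MulAction.index_stabilizer, mul_comm, Subgroup.card_mul_index]

end main

end Data

end Cfsg.Agent.CosetCert
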