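import Mathlib
import Cfsg.Agent.CosetCert.Chain
import Cfsg.Agent.CosetCert.Lower

/-!
Order and simplicity of a presented group from certificates: an upper bound on the order, a
base and orbit lengths in the table giving the same lower bound, primitivity from the
suborbit lengths, and a word that generates the group as a normal subgroup.
-/

namespace Cfsg.Agent.CosetCert

namespace Data

/-- A suborbit certificate. -/
structure Orb where
  set : Nat
  root : Nat
  back : Nat → Nat

/-- The unions of the base point with some of the suborbits. -/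
def unions : List Orb → List Nat
  | [] => [1]
  | o :: t => unions t ++ (unions t).map fun u => u ||| o.set

/-- What is needed of a list of suborbits to see primitivity. -/
structure Suborbits (D : Data) (os : List Orb) : Prop where
  ok : ∀ o ∈ os, (o.root < D.n ∧ o.set.testBit o.root = true) ∧
    ∀ c, c < D.n → D.checkOrbit o.set o.root o.back c = true
  cover : ∀ c, c < D.n → c = 0 ∨ ∃ o ∈ os, o.set.testBit c = true
  arith : ∀ u ∈ unions os, count u D.n ∣ D.n → count u D.n = 1 ∨ count u D.n = D.n

theorem exists_union (os : List Orb) (P : Nat → Prop) :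
    ∃ u ∈ unions os, ∀ c, u.testBit c = true ↔
      c = 0 ∨ ∃ o ∈ os, o.set.testBit c = true ∧ P o.root := by
  classical
  induction os with
  | nil =>
    refine ⟨1, by simp [unions], fun c => ?_⟩
    cases c with
    | zero => simp
    | succ c => simp [Nat.testBit_succ]
  | cons o t ih =>
    obtain ⟨u, hu, hspec⟩ := ih
    by_cases hP : P o.root
    · refine ⟨u ||| o.set, List.mem_append_right _ (List.mem_map_of_mem hu), fun c => ?_⟩
      rw [Nat.testBit_or, Bool.or_eq_true, hspec]
      constructor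
      · rintro ((hc | ⟨o', ho', h'⟩) | hc)
        · exact Or.inl hc
        · exact Or.inr ⟨o', List.mem_cons_of_mem _ ho', h'⟩
        · exact Or.inr ⟨o, List.mem_cons_self .., hc, hP⟩
      · rintro (hc | ⟨o', ho', h'⟩)
        · exact Or.inl (Or.inl hc)
        · rcases List.mem_cons.1 ho' with rfl | ho'
          · exact Or.inr h'.1
          · exact Or.inl (Or.inr ⟨o', ho', h'⟩)
    · refine ⟨u, List.mem_append_left _ hu, fun c => (hspec c).trans ?_⟩
      constructor
      · rintro (hc | ⟨o', ho', h'⟩)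
        · exact Or.inl hc
        · exact Or.inr ⟨o', List.mem_cons_of_mem _ ho', h'⟩
      · rintro (hc | ⟨o', ho', h'⟩)
        · exact Or.inl hc
        · rcases List.mem_cons.1 ho' with rfl | ho'
          · exact absurd h'.2 hP
          · exact Or.inr ⟨o', ho', h'⟩

variable {β : Type*} [DecidableEq β] {rels : Set (FreeGroup β)} {Sg : List (FreeGroup β)}
  {enc : β → Nat} {dec : Nat → β × Bool} {RL : List (List (β × Bool))} {D : Data}

/-- The table action is faithful and the order is known, when the two bounds agree. -/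
theorem order_eq (h : D.Valid) (S : Spells D rels Sg enc dec RL)
    (φ : PresentedGroup rels →* Equiv.Perm (Fin D.n))
    (hfwd : ∀ (l : List (β × Bool)) (c : Fin D.n),
      (((φ (PresentedGroup.mk rels (FreeGroup.mk l)))⁻¹ c : Fin D.n) : Nat) =
        D.fwd (l.map (code D.iv enc)) c)
    {N : Nat} (hfin : Finite (PresentedGroup rels)) (hle : Nat.card (PresentedGroup rels) ≤ N)
    (levels : List Level) (hok : D.LevelsOK [] levels) (hprod : (levels.map Level.size).prod = N) :
    Function.Injective φ ∧ Nat.card (PresentedGroup rels) = N := by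
  have h1 := hprod ▸ lower_bound h S φ hfwd levels hok
  have h2 : Nat.card φ.range ≤ Nat.card (PresentedGroup rels) :=
    Nat.card_le_card_of_surjective φ.rangeRestrict φ.rangeRestrict_surjective
  have hcard : Nat.card (PresentedGroup rels) = N := le_antisymm hle (h1.trans h2)
  refine ⟨?_, hcard⟩
  have hbij : Function.Bijective φ.rangeRestrict :=
    (Nat.bijective_iff_surjective_and_card _).2
      ⟨φ.rangeRestrict_surjective, le_antisymm (hle.trans h1) h2⟩
  exact fun a b hab => hbij.1 (Subtype.ext hab)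

theorem isSimpleGroup_of_cert (h : D.Valid) (S : Spells D rels Sg enc dec RL)
    {N : Nat} (hfin : Finite (PresentedGroup rels)) (hle : Nat.card (PresentedGroup rels) ≤ N)
    (levels : List Level) (hok : D.LevelsOK [] levels) (hprod : (levels.map Level.size).prod = N)
    (os : List Orb) (hos : Suborbits D os)
    (p a : Nat) (hp : p.Prime) (hpn : p ^ a ∣ D.n) (hpN : ¬ p ^ (a + 1) ∣ N) (hN : 1 < N)
    (z : List (β × Bool)) (e : Nat) (he : e ∣ p ^ a)
    (hz : ∀ c, c < D.n →
      D.fwd (((List.replicate e z).flatten).map (code D.iv enc)) c = c)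
    (hclose : ∀ M : Subgroup (PresentedGroup rels), M.Normal →
      PresentedGroup.mk rels (FreeGroup.mk z) ∈ M → M = ⊤) :
    IsSimpleGroup (PresentedGroup rels) ∧ Nat.card (PresentedGroup rels) = N := by
  classical
  obtain ⟨φ, π, hπ, hfwd⟩ := enumeration h S
  obtain ⟨hinj, hcard⟩ := order_eq h S φ hfwd hfin hle levels hok hprod
  let c0 : Fin D.n := ⟨0, h.n_pos⟩
  have hstab : ∀ g ∈ sub rels Sg, φ g c0 = c0 := by
    intro g hg
    obtain ⟨s, hs, rfl⟩ := Subgroup.mem_map.1 hg
    induction hs using Subgroup.closure_induction with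
    | mem s hs =>
      have h1 := hfwd s.toWord c0
      rw [FreeGroup.mk_toWord] at h1
      have h2 : (s.toWord.map (code D.iv enc)) ∈ D.W.drop D.nR :=
        S.drop_eq ▸ List.mem_map_of_mem hs
      rw [Nat.eq_of_beq_eq_true (List.all_eq_true.1 h.subs _ h2)] at h1
      have h3 : (φ (PresentedGroup.mk rels s))⁻¹ c0 = c0 := Fin.ext h1
      exact (Equiv.Perm.inv_eq_iff_eq.1 h3).symm
    | one => simp
    | mul x y hx hy h1 h2 =>
      simp [h1 (Subgroup.mem_map_of_mem _ hx), h2 (Subgroup.mem_map_of_mem _ hy)]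
    | inv x hx h1 =>
      rw [map_inv, map_inv, Equiv.Perm.inv_eq_iff_eq]
      exact (h1 (Subgroup.mem_map_of_mem _ hx)).symm
  have htrans : ∀ c, ∃ g, φ g c0 = c := by
    intro c
    obtain ⟨x, hx⟩ := QuotientGroup.mk_surjective (π c0)
    obtain ⟨y, hy⟩ := QuotientGroup.mk_surjective (π c)
    refine ⟨y * x⁻¹, π.injective ?_⟩
    rw [hπ, ← hx, ← hy]
    show ((y * x⁻¹ * x : PresentedGroup rels) : PresentedGroup rels ⧸ sub rels Sg) = _
    rw [inv_mul_cancel_right]
  have hnt : Nontrivial (PresentedGroup rels) := Finite.one_lt_card_iff_nontrivial.1 (hcard ▸ hN)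
  refine ⟨{ exists_pair_ne := exists_pair_ne _, eq_bot_or_eq_top_of_normal := fun M hM => ?_ },
    hcard⟩
  let Ω : Set (Fin D.n) := {c | ∃ g ∈ M, φ g c0 = c}
  -- the orbit of `M` is a union of suborbits
  have hinv : ∀ g ∈ sub rels Sg, ∀ c, c ∈ Ω → φ g c ∈ Ω := by
    rintro g hg _ ⟨m, hm, rfl⟩
    refine ⟨g * m * g⁻¹, hM.conj_mem m hm g, ?_⟩
    rw [map_mul, map_mul, Equiv.Perm.mul_apply, Equiv.Perm.mul_apply,
      hstab _ (Subgroup.inv_mem _ hg)]
  obtain ⟨u, hu, huspec⟩ := exists_union os
    fun r => ∃ hr : r < D.n, (⟨r, hr⟩ : Fin D.n) ∈ Ω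
  have hΩ : ∀ c : Fin D.n, c ∈ Ω ↔ u.testBit c = true := by
    intro c
    rw [huspec]
    have horb : ∀ (o : Orb) (ho : o ∈ os), o.set.testBit c = true →
        ∃ g ∈ sub rels Sg, φ g ⟨o.root, (hos.ok o ho).1.1⟩ = c := by
      intro o ho hc
      have e := orbit_eq h S φ π hπ hfwd o.set o.root o.back (hos.ok o ho).1 (hos.ok o ho).2
      have hmem : π c ∈ MulAction.orbit (sub rels Sg) (π ⟨o.root, (hos.ok o ho).1.1⟩) := by
        rw [e]; exact ⟨c, hc, rfl⟩
      obtain ⟨⟨g, hg⟩, hgc⟩ := hmem
      exact ⟨g, hg, π.injective ((hπ _ _).trans hgc)⟩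
    constructor
    · intro hc
      rcases hos.cover c c.2 with h0 | ⟨o, ho, hoc⟩
      · exact Or.inl h0
      · obtain ⟨g, hg, hgc⟩ := horb o ho hoc
        refine Or.inr ⟨o, ho, hoc, (hos.ok o ho).1.1, ?_⟩
        have := hinv g⁻¹ (Subgroup.inv_mem _ hg) c hc
        rwa [← hgc, ← Equiv.Perm.mul_apply, ← map_mul, inv_mul_cancel, map_one] at this
    · rintro (h0 | ⟨o, ho, hoc, hr, hrΩ⟩)
      · exact ⟨1, one_mem _, by rw [map_one]; exact Fin.ext h0.symm⟩
      · obtain ⟨g, hg, hgc⟩ := horb o ho hoc
        exact hgc ▸ hinv g hg _ hrΩ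
  have hncard : Ω.ncard = count u D.n := by
    rw [count_eq]; congr 1; ext c; exact hΩ c
  -- `Ω` is a block
  letI : MulAction (PresentedGroup rels) (Fin D.n) := MulAction.compHom _ φ
  have hblock : Ω = MulAction.orbit M c0 := by
    ext c
    exact ⟨fun ⟨g, hg, hgc⟩ => ⟨⟨g, hg⟩, hgc⟩, fun ⟨⟨g, hg⟩, hgc⟩ => ⟨g, hg, hgc⟩⟩
  have hpre : MulAction.IsPretransitive (PresentedGroup rels) (Fin D.n) :=
    ⟨fun x y => by
      obtain ⟨g, hg⟩ := htrans x
      obtain ⟨g', hg'⟩ := htrans y
      refine ⟨g' * g⁻¹, ?_⟩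
      show φ (g' * g⁻¹) x = y
      rw [← hg, map_mul, map_inv, Equiv.Perm.mul_apply, ← Equiv.Perm.mul_apply _ (φ g),
        inv_mul_cancel, Equiv.Perm.one_apply, hg']⟩
  have hdvd : Ω.ncard ∣ D.n := by
    have hB : MulAction.IsBlock (PresentedGroup rels) Ω := by
      rw [hblock]; exact MulAction.IsBlock.orbit_of_normal c0
    have h2 := hB.ncard_dvd_card ⟨c0, by rw [hblock]; exact MulAction.mem_orbit_self _⟩
    rwa [Nat.card_fin] at h2
  rcases hos.arith u hu (hncard ▸ hdvd) with h1 | hn
  · -- `M` fixes the base point, so every point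
    left
    rw [← hncard, Set.ncard_eq_one] at h1
    obtain ⟨x, hx⟩ := h1
    have hc0 : c0 ∈ Ω := ⟨1, one_mem _, by rw [map_one]; rfl⟩
    rw [hx, Set.mem_singleton_iff] at hc0
    rw [eq_bot_iff]
    intro m hm
    rw [Subgroup.mem_bot]
    apply hinj
    rw [map_one]
    ext1 c
    obtain ⟨g, rfl⟩ := htrans c
    have hmem : φ (g⁻¹ * m * g) c0 ∈ Ω := ⟨_, by
      have := hM.conj_mem m hm g⁻¹
      rwa [inv_inv] at this, rfl⟩
    rw [hx, Set.mem_singleton_iff, ← hc0, map_mul, map_mul, map_inv, Equiv.Perm.mul_apply,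
      Equiv.Perm.mul_apply, Equiv.Perm.inv_eq_iff_eq] at hmem
    rw [hmem, Equiv.Perm.one_apply]
  · -- `M` is transitive, so has index prime to `p`
    right
    apply hclose M hM
    have hMdvd : D.n ∣ Nat.card M := by
      have h1 : (MulAction.orbit M c0).ncard = D.n := by rw [← hblock, hncard, hn]
      rw [← h1, ← MulAction.index_stabilizer]
      exact Subgroup.index_dvd_card _
    have hidx : Nat.Coprime (p ^ a) M.index := by
      apply Nat.Coprime.pow_left
      rw [hp.coprime_iff_not_dvd]
      intro hdiv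
      apply hpN
      rw [← hcard, ← M.card_mul_index, pow_succ]
      exact Nat.mul_dvd_mul (hpn.trans hMdvd) hdiv
    have hzp : PresentedGroup.mk rels (FreeGroup.mk z) ^ p ^ a = 1 := by
      obtain ⟨d, hd⟩ := he
      rw [hd, pow_mul]
      suffices hze : PresentedGroup.mk rels (FreeGroup.mk z) ^ e = 1 by rw [hze, one_pow]
      have hrep : ∀ k, (FreeGroup.mk z) ^ k = FreeGroup.mk (List.replicate k z).flatten := by
        intro k
        induction k with
        | zero => rfl
        | succ k ih =>
          rw [pow_succ', ih, FreeGroup.mul_mk]; rfl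
      apply hinj
      rw [map_one, ← map_pow (PresentedGroup.mk rels), hrep]
      apply inv_injective
      ext c
      rw [hfwd, inv_one, Equiv.Perm.one_apply]
      exact hz c c.2
    let q : PresentedGroup rels ⧸ M := (PresentedGroup.mk rels (FreeGroup.mk z) : _)
    have h1 : orderOf q ∣ p ^ a := orderOf_dvd_of_pow_eq_one (by
      show (QuotientGroup.mk' M (PresentedGroup.mk rels (FreeGroup.mk z))) ^ p ^ a = 1
      rw [← map_pow, hzp, map_one])
    have h2 : orderOf q ∣ M.index := orderOf_dvd_natCard q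
    have : orderOf q = 1 := Nat.eq_one_of_dvd_coprimes hidx h1 h2
    exact (QuotientGroup.eq_one_iff _).1 (orderOf_eq_one_iff.1 this)

omit [DecidableEq β] in
/-- A word is a normal generator, when adding it to the relators gives the trivial group. -/
theorem normal_eq_top_of_mem {γ : Type*} [DecidableEq γ] {E : Data}
    {RLz : List (List (γ × Bool))} {Sgz : List (FreeGroup γ)} {encz : γ → Nat}
    {decz : Nat → γ × Bool} (hE : E.LogValid)
    (Sz : Spells E (wordRels RLz) Sgz encz decz RLz) (hSgz : Sgz = []) (hn : E.n = 1)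
    (f : γ → β) (hf : Function.Surjective f) (z : List (β × Bool))
    (hRL : ∀ l ∈ RLz, PresentedGroup.mk rels (FreeGroup.mk (l.map fun a => (f a.1, a.2))) = 1 ∨
      (l.map fun a => (f a.1, a.2)) = z)
    (M : Subgroup (PresentedGroup rels)) (hM : M.Normal)
    (hz : PresentedGroup.mk rels (FreeGroup.mk z) ∈ M) : M = ⊤ := by
  obtain ⟨hne, hle⟩ := index_le hE Sz
  subst hSgz
  have hone : ∀ g : PresentedGroup (wordRels RLz), g = 1 := by
    have hbot : sub (wordRels RLz) ([] : List (FreeGroup γ)) = ⊥ := by simp [sub]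
    rw [hbot, Subgroup.index_bot] at hne hle
    have : Finite (PresentedGroup (wordRels RLz)) := (Nat.card_ne_zero.1 hne).2
    have hs : Subsingleton (PresentedGroup (wordRels RLz)) :=
      Finite.card_le_one_iff_subsingleton.1 (hn ▸ hle)
    exact fun g => Subsingleton.elim g 1
  have hr : ∀ r ∈ wordRels RLz,
      FreeGroup.lift (fun b => QuotientGroup.mk' M (PresentedGroup.of (f b))) r = 1 := by
    intro r hr
    obtain ⟨l, hl, rfl⟩ := List.mem_map.1 hr
    have e : FreeGroup.lift (fun b => QuotientGroup.mk' M (PresentedGroup.of (f b))) =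
        ((QuotientGroup.mk' M).comp (PresentedGroup.mk rels)).comp (FreeGroup.map f) :=
      FreeGroup.ext_hom _ _ fun b => by simp [PresentedGroup.of]
    rw [e, MonoidHom.comp_apply, MonoidHom.comp_apply, FreeGroup.map.mk]
    rcases hRL l hl with h1 | h1
    · rw [h1, map_one]
    · exact (QuotientGroup.eq_one_iff _).2 (h1 ▸ hz)
  rw [eq_top_iff, ← PresentedGroup.closure_range_of, Subgroup.closure_le]
  rintro _ ⟨c, rfl⟩
  obtain ⟨b, rfl⟩ := hf c
  have h1 := congrArg (PresentedGroup.toGroup hr) (hone (PresentedGroup.of b))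
  rw [map_one] at h1
  exact (QuotientGroup.eq_one_iff _).1 ((PresentedGroup.toGroup.of hr).symm.trans h1)

end Data

end Cfsg.Agent.CosetCert
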