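import Cfsg.Agent.CosetCert.Simple

/-!
A word fixing every base point is trivial, when the levels give the whole order.
-/

namespace Cfsg.Agent.CosetCert.Data

open Cfsg.Agent.CosetCert

variable {D : Data}

theorem levelsOK_append (X : Level) : ∀ {bs : List Nat} {ls : List Level}, D.LevelsOK bs ls →
    D.LevelsOK (bs ++ ls.map Level.base) [X] → D.LevelsOK bs (ls ++ [X]) := by
  intro bs ls
  induction ls generalizing bs with
  | nil => intro _ h; simpa using h
  | cons L rest ih =>
    intro h hX
    exact ⟨h.1, ih h.2 (by simpa using hX)⟩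

variable {β : Type*} [DecidableEq β] {rels : Set (FreeGroup β)} {Sg : List (FreeGroup β)}
  {enc : β → Nat} {dec : Nat → β × Bool} {RL : List (List (β × Bool))}

theorem eq_one_of_fixes_bases (h : D.Valid) (S : Spells D rels Sg enc dec RL)
    (φ : PresentedGroup rels →* Equiv.Perm (Fin D.n))
    (hfwd : ∀ (l : List (β × Bool)) (c : Fin D.n),
      (((φ (PresentedGroup.mk rels (FreeGroup.mk l)))⁻¹ c : Fin D.n) : Nat) =
        D.fwd (l.map (code D.iv enc)) c)
    {N : Nat} (hfin : Finite (PresentedGroup rels)) (hle : Nat.card (PresentedGroup rels) ≤ N)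
    (hN : 0 < N) (levels : List Level) (hok : D.LevelsOK [] levels)
    (hprod : (levels.map Level.size).prod = N) (l : List (β × Bool))
    (hlt : ((l.map (code D.iv enc)).all fun x => Nat.blt x D.K) = true)
    (hfix : ((levels.map Level.base).all fun b =>
      Nat.beq (D.fwd (l.map (code D.iv enc)) b) b) = true) :
    PresentedGroup.mk rels (FreeGroup.mk l) = 1 := by
  classical
  have hinj := (order_eq h S φ hfwd hfin hle levels hok hprod).1
  apply hinj
  apply inv_injective
  ext c
  rw [map_one, inv_one, Equiv.Perm.one_apply, hfwd]
  by_contra hne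
  let w := l.map (code D.iv enc)
  let d := D.fwd w c
  have hd : d < D.n := by
    show D.fwd (l.map (code D.iv enc)) c < D.n
    rw [← hfwd l c]
    exact ((φ (PresentedGroup.mk rels (FreeGroup.mk l)))⁻¹ c).2
  let X : Level :=
    { gens := [w]
      base := c
      size := 2
      pts := fun j => if j = 0 then (c : Nat) * 1099511627776 else d * 1099511627776
      pos := fun p => if p = (c : Nat) then 0 else 1 }
  have hX : D.LevelsOK ([] ++ levels.map Level.base) [X] := by
    refine ⟨⟨c.2, ?_, ?_⟩, trivial⟩
    · simp only [checkGens, X, List.all_cons, List.all_nil, Bool.and_true, List.nil_append,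
        Bool.and_eq_true]
      exact ⟨hlt, hfix⟩
    · intro j hj
      change j < 2 at hj
      have hc0 : Nat.div ((c : Nat) * 1099511627776) 1099511627776 = c :=
        Nat.mul_div_cancel _ (by norm_num)
      have hd0 : Nat.div (d * 1099511627776) 1099511627776 = d :=
        Nat.mul_div_cancel _ (by norm_num)
      interval_cases j
      · simp [checkPoint, X, hc0, Nat.blt_eq]
      · have h1 : Nat.mod (d * 1099511627776) 256 = 0 := by
          show d * 1099511627776 % 256 = 0
          omega
        have h2 : Nat.mod (Nat.div (d * 1099511627776) 256) 4294967296 = 0 := by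
          show d * 1099511627776 / 256 % 4294967296 = 0
          omega
        have hdc : d ≠ (c : Nat) := hne
        simp [checkPoint, X, hc0, hd0, h1, h2, Nat.blt_eq, hd, hdc]
        show (Nat.blt 0 1 && Nat.beq (D.fwd w c) d) = true
        exact Bool.and_eq_true_iff.2 ⟨rfl, Nat.beq_refl d⟩
  have h2 := lower_bound h S φ hfwd (levels ++ [X]) (levelsOK_append X hok hX)
  have h3 : Nat.card φ.range ≤ N :=
    le_trans (Nat.card_le_card_of_surjective φ.rangeRestrict φ.rangeRestrict_surjective) hle
  rw [List.map_append, List.prod_append, hprod] at h2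
  simp only [List.map_cons, List.map_nil, List.prod_cons, List.prod_nil, X] at h2
  omega

end Cfsg.Agent.CosetCert.Data
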