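import Cfsg.Agent.CosetCert.Cox
import Cfsg.Agent.CosetCert.Chain

/-!
Certificates for presentations with a Coxeter graph on some of the generators only.
-/

namespace Cfsg.Agent.CosetCert

open Cfsg.Spor

variable {β : Type*} [DecidableEq β]

/-- Letters and their inverses are distinct codes here, so nothing is assumed on the orders of
the generators outside the graph. -/
theorem spells_cox_extra (D : Data) (gens : List β) (edges : List (β × ℕ × β))
    (extra Sg : List (FreeGroup β)) (enc : β → Nat) (dec : Nat → β × Bool)
    (hgens : ∀ b ∈ coxNodes edges, b ∈ gens) (hnodes : ∀ b ∈ gens, b ∈ coxNodes edges)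
    (henc : ∀ b, enc b < D.K ∧ dec (enc b) = (b, true))
    (hcode : ∀ x, x < D.K → Data.code D.iv enc (dec x) = x)
    (hinv : ∀ x, x < D.K →
      FreeGroup.mk [dec (D.iv x)] * FreeGroup.mk [dec x] = 1 ∨
        ∃ b ∈ gens, dec (D.iv x) = (b, true) ∧ dec x = (b, true))
    (htake : D.W.take D.nR = (coxWords gens edges extra).map (List.map (Data.code D.iv enc)) ++
      ([] :: (List.range D.K).map fun x => [x, D.iv x]))
    (hdrop : D.W.drop D.nR = Sg.map fun s => s.toWord.map (Data.code D.iv enc)) :
    Data.Spells D (coxRelators edges ∪ {r | r ∈ extra}) Sg enc dec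
      (coxWords gens edges extra) := by
  refine
    { enc_lt := henc
      inv_letter := ?_
      rels_one := ?_
      rels_mem := ?_
      take_eq := htake
      code_dec := hcode
      drop_eq := hdrop }
  · intro x hx
    rw [← map_mul]
    rcases hinv x hx with h | ⟨b, hb, h1, h2⟩
    · rw [h, map_one]
    · rw [h1, h2]
      exact PresentedGroup.one_of_mem
        (Or.inl ⟨b, hnodes b hb, b, hnodes b hb, by simp [coxLabel]; rfl⟩)
  · intro l hl
    apply PresentedGroup.one_of_mem
    rcases List.mem_append.1 hl with hl | hl
    · obtain ⟨p, hp, rfl⟩ := List.mem_map.1 hl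
      have hmem : ∀ (l : List β) (q : β × β), q ∈ pairsOf l → q.1 ∈ l ∧ q.2 ∈ l := by
        intro l
        induction l with
        | nil => intro q hq; exact absurd hq List.not_mem_nil
        | cons z t ih =>
          intro q hq
          rcases List.mem_append.1 hq with hq | hq
          · obtain ⟨y, hy, rfl⟩ := List.mem_map.1 hq
            exact ⟨List.mem_cons_self, hy⟩
          · exact ⟨List.mem_cons_of_mem _ (ih q hq).1, List.mem_cons_of_mem _ (ih q hq).2⟩
      obtain ⟨h1, h2⟩ := hmem gens p hp
      exact Or.inl ⟨p.1, hnodes _ h1, p.2, hnodes _ h2, mk_powPair _ _ _⟩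
    · obtain ⟨r, hr, rfl⟩ := List.mem_map.1 hl
      exact Or.inr (by rwa [FreeGroup.mk_toWord])
  · rintro r (⟨x, hx₀, y, hy₀, rfl⟩ | hr)
    · have key : ∀ l : List β, x ∈ l → y ∈ l → (x, y) ∈ pairsOf l ∨ (y, x) ∈ pairsOf l := by
        intro l
        induction l with
        | nil => intro h; exact absurd h (List.not_mem_nil)
        | cons z t ih =>
          intro hx hy
          simp only [pairsOf, List.mem_append, List.mem_map]
          rcases List.mem_cons.1 hx with rfl | hx'
          · exact Or.inl (Or.inl ⟨y, hy, rfl⟩)
          · rcases List.mem_cons.1 hy with rfl | hy'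
            · exact Or.inr (Or.inl ⟨x, hx, rfl⟩)
            · exact (ih hx' hy').imp Or.inr Or.inr
      have hin : ∀ a b, (a, b) ∈ pairsOf gens →
          (FreeGroup.of a * FreeGroup.of b) ^ coxLabel edges a b ∈
            Subgroup.normalClosure {r | r ∈ (coxWords gens edges extra).map FreeGroup.mk} := by
        intro a b hab
        apply Subgroup.subset_normalClosure
        rw [← mk_powPair]
        exact List.mem_map_of_mem (List.mem_append_left _
          (List.mem_map.2 ⟨(a, b), hab, rfl⟩))
      rcases key gens (hgens x hx₀) (hgens y hy₀) with h | h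
      · exact hin x y h
      · have h' := (Subgroup.normalClosure_normal).conj_mem _ (hin y x h) (FreeGroup.of y)⁻¹
        rw [inv_inv] at h'
        have e : (FreeGroup.of y)⁻¹ * (FreeGroup.of y * FreeGroup.of x) ^ coxLabel edges y x *
            FreeGroup.of y = (FreeGroup.of x * FreeGroup.of y) ^ coxLabel edges x y := by
          have := conj_pow (a := (FreeGroup.of y)⁻¹) (b := FreeGroup.of y * FreeGroup.of x)
            (i := coxLabel edges y x)
          rw [inv_inv] at this
          rw [← this, coxLabel_comm edges y x]
          group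
        rw [e] at h'
        exact h'
    · apply Subgroup.subset_normalClosure
      exact List.mem_map.2 ⟨r.toWord, List.mem_append_right _ (List.mem_map_of_mem hr),
        FreeGroup.mk_toWord⟩

/-- A word list as relators, with inverse letters as separate codes. -/
theorem spells_words_extra (D : Data) (RL : List (List (β × Bool))) (Sg : List (FreeGroup β))
    (enc : β → Nat) (dec : Nat → β × Bool)
    (henc : ∀ b, enc b < D.K ∧ dec (enc b) = (b, true))
    (hcode : ∀ x, x < D.K → Data.code D.iv enc (dec x) = x)
    (hinv : ∀ x, x < D.K →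
      FreeGroup.mk [dec (D.iv x)] * FreeGroup.mk [dec x] = 1 ∨ [dec (D.iv x), dec x] ∈ RL)
    (htake : D.W.take D.nR = RL.map (List.map (Data.code D.iv enc)) ++
      ([] :: (List.range D.K).map fun x => [x, D.iv x]))
    (hdrop : D.W.drop D.nR = Sg.map fun s => s.toWord.map (Data.code D.iv enc)) :
    Data.Spells D (wordRels RL) Sg enc dec RL where
  enc_lt := henc
  inv_letter x hx := by
    rw [← map_mul]
    rcases hinv x hx with h | h
    · rw [h, map_one]
    · rw [FreeGroup.mul_mk]
      exact PresentedGroup.one_of_mem (List.mem_map_of_mem h)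
  rels_one l hl := PresentedGroup.one_of_mem (List.mem_map_of_mem hl)
  rels_mem := Subgroup.subset_normalClosure
  take_eq := htake
  code_dec := hcode
  drop_eq := hdrop

end Cfsg.Agent.CosetCert
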