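import Cfsg.Agent.CosetCert.Simple

/-!
When the levels give the whole order, the listed points are the whole orbits of the stabilisers.
-/

namespace Cfsg.Agent.CosetCert.Data

variable {D : Data}

theorem levelsOK_split : ∀ {pre : List Level} {bs : List Nat} {rest : List Level},
    D.LevelsOK bs (pre ++ rest) ↔
      D.LevelsOK bs pre ∧ D.LevelsOK (bs ++ pre.map Level.base) rest := by
  intro pre
  induction pre with
  | nil => intro bs rest; simp [LevelsOK]
  | cons L t ih =>
    intro bs rest
    simp only [List.cons_append, LevelsOK, List.map_cons]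
    rw [ih, List.append_assoc]
    exact and_assoc.symm

variable {β : Type*} [DecidableEq β] {rels : Set (FreeGroup β)} {Sg : List (FreeGroup β)}
  {enc : β → Nat} {dec : Nat → β × Bool} {RL : List (List (β × Bool))}

/-- A word fixing the earlier base points maps a base point into the list of its level. -/
theorem level_exact (h : D.Valid) (S : Spells D rels Sg enc dec RL)
    (φ : PresentedGroup rels →* Equiv.Perm (Fin D.n))
    (hfwd : ∀ (l : List (β × Bool)) (c : Fin D.n),
      (((φ (PresentedGroup.mk rels (FreeGroup.mk l)))⁻¹ c : Fin D.n) : Nat) =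
        D.fwd (l.map (code D.iv enc)) c)
    {N : Nat} (hfin : Finite (PresentedGroup rels)) (hle : Nat.card (PresentedGroup rels) ≤ N)
    (hN : 0 < N) (pre : List Level) (L : Level) (post : List Level)
    (hok : D.LevelsOK [] (pre ++ L :: post))
    (hprod : ((pre ++ L :: post).map Level.size).prod = N)
    (hglen : L.gens.length < 256) (hsize : L.size ≤ 4294967296)
    (l : List (β × Bool))
    (hlt : ((l.map (code D.iv enc)).all fun x => Nat.blt x D.K) = true)
    (hfix : ∀ b ∈ pre.map Level.base, D.fwd (l.map (code D.iv enc)) b = b) :
    ∃ j, j < L.size ∧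
      Nat.div (L.pts j) 1099511627776 = D.fwd (l.map (code D.iv enc)) L.base := by
  classical
  by_contra hnone
  rw [not_exists] at hnone
  obtain ⟨hpre, hLrest⟩ := levelsOK_split.1 hok
  obtain ⟨⟨hb, hg, hp⟩, hpost⟩ := hLrest
  set w := l.map (code D.iv enc) with hw
  have hwK : ∀ x ∈ w, x < D.K := fun x hx => Nat.ble_eq.mp (List.all_eq_true.1 hlt x hx)
  have hdn : D.fwd w L.base < D.n := h.fwd_lt hwK hb
  have hfactor : (pre.map Level.size).prod * (L.size * (post.map Level.size).prod) = N := by
    simpa using hprod
  have hpos : 0 < L.size := by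
    rcases Nat.eq_zero_or_pos L.size with h0 | h0
    · rw [h0, Nat.zero_mul, Nat.mul_zero] at hfactor; omega
    · exact h0
  let d := D.fwd w L.base
  have hpt0 : Nat.div (L.pts 0) 1099511627776 = L.base := by
    have h1 := hp 0 hpos
    simp only [checkPoint, force_eq, gate_eq, Bool.and_eq_true] at h1
    exact Nat.eq_of_beq_eq_true h1.2.2
  let L' : Level :=
    { gens := L.gens ++ [w]
      base := L.base
      size := L.size + 1
      pts := fun j => if j = L.size then d * 1099511627776 + L.gens.length else L.pts j
      pos := fun p => if p = d then L.size else L.pos p }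
  have hg' : D.checkGens ([] ++ pre.map Level.base) L' = true := by
    simp only [checkGens, L', List.all_append, Bool.and_eq_true]
    refine ⟨hg, ?_⟩
    simp only [List.all_cons, List.all_nil, Bool.and_true, Bool.true_and, Bool.and_eq_true]
    exact ⟨hlt, List.all_eq_true.2 fun b hb' => by
      rw [hfix b (by simpa using hb')]; exact Nat.beq_refl b⟩
  have hword : ∀ k, k < L.gens.length → word (L.gens ++ [w]) k = word L.gens k := fun k hk => by
    rw [word_eq, word_eq, List.getD_eq_getElem _ _ (by simp; omega),
      List.getD_eq_getElem _ _ hk, List.getElem_append_left hk]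
  have hp' : ∀ j, j < L'.size → D.checkPoint L' j = true := by
    intro j hj
    change j < L.size + 1 at hj
    rcases Nat.lt_or_ge j L.size with hj' | hj'
    · have h1 := hp j hj'
      have hne : j ≠ L.size := Nat.ne_of_lt hj'
      simp only [checkPoint, force_eq, gate_eq, Bool.and_eq_true] at h1 ⊢
      simp only [L', if_neg hne]
      have hpd : Nat.div (L.pts j) 1099511627776 ≠ d := fun he => hnone j ⟨hj', he⟩
      rw [if_neg hpd]
      obtain ⟨h1, h2, h3⟩ := h1
      refine ⟨h1, h2, ?_⟩
      rcases Nat.eq_zero_or_pos j with rfl | hj0
      · exact h3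
      · have hb0 : Nat.beq j 0 = false := by
          cases hbb : Nat.beq j 0
          · rfl
          · exact absurd (Nat.eq_of_beq_eq_true hbb) (Nat.ne_of_gt hj0)
        rw [hb0] at h3 ⊢
        simp only [Bool.and_eq_true] at h3 ⊢
        obtain ⟨h4, h5, h6⟩ := h3
        have h4' := Nat.ble_eq.mp h4
        have h5' := Nat.ble_eq.mp h5
        refine ⟨h4, Nat.ble_eq.mpr (by rw [List.length_append]; simp only [List.length_singleton]; omega), ?_⟩
        rw [if_neg (by omega), hword _ h5']
        exact h6
    · have hje : j = L.size := by omega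
      subst hje
      have hb0 : Nat.beq L.size 0 = false := by
        cases hbb : Nat.beq L.size 0
        · rfl
        · exact absurd (Nat.eq_of_beq_eq_true hbb) (Nat.ne_of_gt hpos)
      have e1 : Nat.div (d * 1099511627776 + L.gens.length) 1099511627776 = d := by
        show (d * 1099511627776 + L.gens.length) / 1099511627776 = d
        omega
      have e2 : Nat.mod (Nat.div (d * 1099511627776 + L.gens.length) 256) 4294967296 = 0 := by
        show (d * 1099511627776 + L.gens.length) / 256 % 4294967296 = 0
        omega
      have e3 : Nat.mod (d * 1099511627776 + L.gens.length) 256 = L.gens.length := by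
        show (d * 1099511627776 + L.gens.length) % 256 = L.gens.length
        omega
      simp only [checkPoint, force_eq, gate_eq, Bool.and_eq_true, L', if_true, e1, e2, e3, hb0]
      refine ⟨Nat.beq_refl _, Nat.ble_eq.mpr hdn, Nat.ble_eq.mpr hpos,
        Nat.ble_eq.mpr (by simp), ?_⟩
      rw [if_neg (Nat.ne_of_lt hpos), hpt0, word_eq,
        List.getD_eq_getElem _ _ (by simp), List.getElem_append_right (le_refl _)]
      simp only [Nat.sub_self, List.getElem_singleton]
      exact Nat.beq_refl d
  have hok' : D.LevelsOK [] (pre ++ L' :: post) := levelsOK_split.2 ⟨hpre, ⟨hb, hg', hp'⟩, hpost⟩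
  have h2 := lower_bound h S φ hfwd (pre ++ L' :: post) hok'
  have h3 : Nat.card φ.range ≤ N :=
    le_trans (Nat.card_le_card_of_surjective φ.rangeRestrict φ.rangeRestrict_surjective) hle
  simp only [List.map_append, List.map_cons, List.prod_append, List.prod_cons, L'] at h2
  have h4 : (pre.map Level.size).prod * ((L.size + 1) * (post.map Level.size).prod) =
      N + (pre.map Level.size).prod * (post.map Level.size).prod := by
    rw [← hfactor]; ring
  have h5 : 0 < (pre.map Level.size).prod * (post.map Level.size).prod := by
    rcases Nat.eq_zero_or_pos ((pre.map Level.size).prod * (post.map Level.size).prod) with h0 | h0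
    · have : N = 0 := by rw [← hfactor, Nat.mul_left_comm, h0, Nat.mul_zero]
      omega
    · exact h0
  omega

end Cfsg.Agent.CosetCert.Data
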