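import Cfsg.Agent.CosetCert.Pack

/-!
Checking that a word to a power fixes every coset, through a stored permutation of the word.
-/

namespace Cfsg.Agent.CosetCert

/-- The iterates of a stored permutation. -/
noncomputable def iter (Z : Nat → Nat) (e : Nat) : Nat → Nat :=
  Nat.rec (fun c => c) (fun _ ih c => force (Z c) ih) e

/-- At `c` the stored permutation is the word's, and its `e`th power fixes `c`. -/
noncomputable def checkPower (D : Data) (w : List Nat) (Z : Nat → Nat) (e c : Nat) : Bool :=
  force (Z c) fun d => Nat.beq (D.fwd w c) d && (Nat.blt d D.n && Nat.beq (iter Z e c) c)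

theorem fwd_power (D : Data) (w : List Nat) (Z : Nat → Nat) (e : Nat)
    (h : ∀ c, c < D.n → checkPower D w Z e c = true) :
    ∀ c, c < D.n → D.fwd ((List.replicate e w).flatten) c = c := by
  have hstep : ∀ c, c < D.n → D.fwd w c = Z c ∧ Z c < D.n ∧ iter Z e c = c := by
    intro c hc
    have h1 := h c hc
    simp only [checkPower, force_eq, Bool.and_eq_true] at h1
    exact ⟨Nat.eq_of_beq_eq_true h1.1, Nat.ble_eq.mp h1.2.1, Nat.eq_of_beq_eq_true h1.2.2⟩
  have key : ∀ k c, c < D.n → D.fwd ((List.replicate k w).flatten) c = iter Z k c := by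
    intro k
    induction k with
    | zero => intro c _; rfl
    | succ k ih =>
      intro c hc
      obtain ⟨h1, h2, -⟩ := hstep c hc
      rw [List.replicate_succ, List.flatten_cons, Data.fwd_append, h1, ih _ h2]
      show iter Z k (Z c) = force (Z c) (iter Z k)
      rw [force_eq]
  intro c hc
  rw [key e c hc, (hstep c hc).2.2]

end Cfsg.Agent.CosetCert
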