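import Cfsg.Agent.CosetCert.Upper

/-!
Words that a log proves to lie in the subgroup: no table is needed.
-/

namespace Cfsg.Agent.CosetCert

namespace Data

/-- The part of a certificate needed to use the facts of its log. -/
structure LogOnly (D : Data) : Prop where
  log : ∀ i, i < D.Nf → D.checkLog i = true
  iv_iv : ∀ x, x < D.K → D.iv (D.iv x) = x ∧ D.iv x < D.K
  iv_big : ∀ x, D.K ≤ x → D.iv x = x
  pw : ∀ k, k < D.W.length → D.PW k = pack (D.W.getD k [])
  letters : D.W.all (fun w => w.all fun x => Nat.blt x D.K) = true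
  K_small : D.K < 31
  nR_le : D.nR ≤ D.W.length

variable {D : Data}

theorem LogOnly.letters_lt (h : D.LogOnly) {w : List Nat} (hw : w ∈ D.W) : ∀ x ∈ w, x < D.K :=
  fun x hx => Nat.ble_eq.mp (List.all_eq_true.1 (List.all_eq_true.1 h.letters w hw) x hx)

variable {β : Type*} [DecidableEq β] {rels : Set (FreeGroup β)} {Sg : List (FreeGroup β)}
  {enc : β → Nat} {dec : Nat → β × Bool} {RL : List (List (β × Bool))}

/-- A walk through proved facts that spells `l` and closes at the root puts `l` in the subgroup. -/
theorem word_mem (h : D.LogOnly) (S : Spells D rels Sg enc dec RL) (l : List (β × Bool))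
    (items cnt : Nat) (hl : ∀ x ∈ l.map (code D.iv enc), x < 31)
    (hwalk : walk D.F D.iv D.K D.Nf cnt items 0 (pack (l.map (code D.iv enc))) = stop 0 0) :
    PresentedGroup.mk rels (FreeGroup.mk l) ∈ sub rels Sg := by
  classical
  have henc := fun b => (S.enc_lt b).1
  -- letters
  let G := PresentedGroup rels
  let lt : Nat → G := fun x => if x < D.K then PresentedGroup.mk rels (FreeGroup.mk [dec x]) else 1
  let σ : Nat → G ⧸ sub rels Sg → G ⧸ sub rels Sg := fun x a => (lt x)⁻¹ • a
  have hltinv : ∀ x, x < D.K → lt (D.iv x) = (lt x)⁻¹ := by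
    intro x hx
    apply eq_inv_of_mul_eq_one_left
    simp only [lt, if_pos hx, if_pos (h.iv_iv x hx).2]
    exact S.inv_letter x hx
  have hltcode : ∀ a : β × Bool, lt (code D.iv enc a) = PresentedGroup.mk rels (FreeGroup.mk [a]) := by
    rintro ⟨b, _ | _⟩
    · have : code D.iv enc (b, false) = D.iv (enc b) := rfl
      rw [this, hltinv _ (henc b)]
      simp only [lt, if_pos (henc b), (S.enc_lt b).2]
      rw [← map_inv, FreeGroup.inv_mk]; rfl
    · have : code D.iv enc (b, true) = enc b := rfl
      rw [this]; simp only [lt, if_pos (henc b), (S.enc_lt b).2]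
  have hσK : ∀ z, σ D.K z = z := fun z => by simp [σ, lt]
  have hinj : ∀ x, Function.Injective (σ x) := fun x => MulAction.injective _
  have happ : ∀ (w : List Nat) a, app σ w a = ((w.map lt).prod)⁻¹ • a := by
    intro w
    induction w with
    | nil => intro a; simp
    | cons x t ih => intro a; simp [ih, σ, mul_smul]
  have happcode : ∀ (l : List (β × Bool)) a,
      app σ (l.map (code D.iv enc)) a =
        (PresentedGroup.mk rels (FreeGroup.mk l))⁻¹ • a := by
    intro l a
    rw [happ]
    congr 2
    induction l with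
    | nil => exact (map_one _).symm
    | cons b t ih =>
      have : FreeGroup.mk (b :: t) = FreeGroup.mk [b] * FreeGroup.mk t := by
        rw [FreeGroup.mul_mk]; rfl
      rw [List.map_cons, List.map_cons, List.prod_cons, ih, hltcode, this, map_mul]
  have hleft : ∀ x a, σ (D.iv x) (σ x a) = a := by
    intro x a
    by_cases hx : x < D.K
    · simp [σ, hltinv x hx]
    · simp [σ, lt, h.iv_big x (Nat.le_of_not_lt hx), hx]
  -- words of the log
  have hrelone := S.rels_one
  have hR : ∀ k, k < D.nR → ∀ a, app σ (D.W.getD k []) a = a := by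
    intro k hk a
    by_cases hlen : k < D.W.length
    · have hmem : D.W.getD k [] ∈ D.W.take D.nR := by
        rw [List.getD_eq_getElem _ _ hlen, List.mem_take_iff_getElem]
        exact ⟨k, lt_min hk hlen, rfl⟩
      generalize D.W.getD k [] = w at hmem ⊢
      rw [S.take_eq, List.mem_append, List.mem_cons, List.mem_map, List.mem_map] at hmem
      rcases hmem with ⟨l, hl, rfl⟩ | rfl | ⟨x, -, rfl⟩
      · rw [happcode, hrelone l hl, inv_one, one_smul]
      · rfl
      · simp [hleft]
    · rw [List.getD_eq_default _ _ (Nat.le_of_not_lt hlen)]; rfl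
  let a0 : G ⧸ sub rels Sg := ((1 : G) : G ⧸ sub rels Sg)
  have hfix0 : ∀ g ∈ sub rels Sg, g • a0 = a0 := by
    intro g hg
    show ((g * 1 : G) : G ⧸ sub rels Sg) = ((1 : G) : G ⧸ sub rels Sg)
    rw [QuotientGroup.eq]
    simpa using hg
  have hS : ∀ k, app σ (D.W.getD k []) a0 = a0 := by
    intro k
    by_cases hk : k < D.nR
    · exact hR k hk a0
    by_cases hlen : k < D.W.length
    · have hmem : D.W.getD k [] ∈ D.W.drop D.nR := by
        rw [List.getD_eq_getElem _ _ hlen, List.mem_drop_iff_getElem]
        exact ⟨k - D.nR, by omega, by congr 1; omega⟩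
      generalize D.W.getD k [] = w at hmem ⊢
      rw [S.drop_eq, List.mem_map] at hmem
      obtain ⟨s, hs, rfl⟩ := hmem
      rw [happcode, FreeGroup.mk_toWord]
      exact hfix0 _ (Subgroup.inv_mem _ (Subgroup.mem_map_of_mem _ (Subgroup.subset_closure hs)))
    · rw [List.getD_eq_default _ _ (Nat.le_of_not_lt hlen)]; rfl
  -- the points of the log
  let q : Nat → G ⧸ sub rels Sg := points D σ a0
  have hq : ∀ i, i < D.Nf → Holds σ D.F q i := by
    intro i
    induction i using Nat.strong_induction_on with
    | _ i ih =>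
      intro hi
      have hc := h.log i hi
      simp only [checkLog] at hc
      cases hm : Nat.blt i D.M <;> rw [hm] at hc
      · exact checkFact_sound σ D.iv hleft (W := D.W) hσK hinj (fun k hk => ⟨h.pw k hk, fun x hx => lt_trans (LogOnly.letters_lt h (w := D.W.getD k []) (by rw [List.getD_eq_getElem _ _ hk]; exact List.getElem_mem _) x (by exact hx)) h.K_small⟩) h.nR_le hR (fun k => by rw [show q 0 = a0 from points_zero]; exact hS k)
          (fun m hm => ih m hm (hm.trans hi)) hc
      · exact holds_points hc
  obtain ⟨c, r, l', hl', hs, hlt, happ⟩ := walk_sound (q := q) σ D.iv hleft hσK hq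
    (l := l.map (code D.iv enc)) (n := cnt) (j := items) (cur := 0) (s := 0) ⟨rfl, hl⟩
    (by rw [hwalk]; rfl)
  have hc : c < 1048576 := hlt (by norm_num)
  obtain rfl : r = 0 := by omega
  obtain rfl : c = 0 := by omega
  obtain rfl := packs_zero hl'
  rw [app_nil, happcode, show q 0 = a0 from points_zero] at happ
  have e : ((((PresentedGroup.mk rels (FreeGroup.mk l))⁻¹ * 1 : G)) : G ⧸ sub rels Sg) =
      ((1 : G) : G ⧸ sub rels Sg) := happ
  rw [mul_one, QuotientGroup.eq, inv_inv, mul_one] at e
  exact e

end Data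

end Cfsg.Agent.CosetCert
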