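import Cfsg.Agent.CosetCert.Member
import Cfsg.Agent.CosetCert.Chain

/-!
Membership facts of a presented group, read in any group that satisfies the relators.
-/

namespace Cfsg.Agent.CosetCert

variable {β : Type*} {G : Type*} [Group G]

/-- A membership in the presented group holds in every group satisfying the relators. -/
theorem group_mem_of_mem_sub {RL SW : List (List (β × Bool))} {t : List (β × Bool)}
    (h : PresentedGroup.mk (wordRels RL) (FreeGroup.mk t) ∈
      Data.sub (wordRels RL) (SW.map FreeGroup.mk))
    (f : β → G) (hf : ∀ r ∈ RL, FreeGroup.lift f (FreeGroup.mk r) = 1) :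
    FreeGroup.lift f (FreeGroup.mk t) ∈
      Subgroup.closure {s | ∃ w ∈ SW, FreeGroup.lift f (FreeGroup.mk w) = s} := by
  have hr : ∀ r ∈ wordRels RL, FreeGroup.lift f r = 1 := by
    intro r hr
    obtain ⟨l, hl, rfl⟩ := List.mem_map.1 hr
    exact hf l hl
  obtain ⟨v, hv, hvt⟩ := Subgroup.mem_map.1 h
  have hφ : ∀ w : FreeGroup β, PresentedGroup.toGroup hr (PresentedGroup.mk (wordRels RL) w) =
      FreeGroup.lift f w := fun w =>
    DFunLike.congr_fun (show (PresentedGroup.toGroup hr).comp (PresentedGroup.mk (wordRels RL)) =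
      FreeGroup.lift f from FreeGroup.ext_hom _ _ fun b => by
        simp only [MonoidHom.comp_apply, FreeGroup.lift_apply_of]
        exact PresentedGroup.toGroup.of hr) w
  have heq : FreeGroup.lift f v = FreeGroup.lift f (FreeGroup.mk t) := by
    rw [← hφ, ← hφ, hvt]
  rw [← heq]
  have hmap : FreeGroup.lift f v ∈
      (Subgroup.closure {s | s ∈ SW.map FreeGroup.mk}).map (FreeGroup.lift f) :=
    Subgroup.mem_map_of_mem _ hv
  rw [MonoidHom.map_closure] at hmap
  refine Subgroup.closure_mono ?_ hmap
  rintro _ ⟨s, hs, rfl⟩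
  obtain ⟨w, hw, rfl⟩ := List.mem_map.1 hs
  exact ⟨w, hw, rfl⟩

/-- A relation of the presented group holds in every group satisfying the relators. -/
theorem group_one_of_mem_sub {RL : List (List (β × Bool))} {t : List (β × Bool)}
    (h : PresentedGroup.mk (wordRels RL) (FreeGroup.mk t) ∈
      Data.sub (wordRels RL) (([] : List (List (β × Bool))).map FreeGroup.mk))
    (f : β → G) (hf : ∀ r ∈ RL, FreeGroup.lift f (FreeGroup.mk r) = 1) :
    FreeGroup.lift f (FreeGroup.mk t) = 1 := by
  simpa using group_mem_of_mem_sub h f hf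

end Cfsg.Agent.CosetCert
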