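import Cfsg.Agent.CosetCert.Lower

/-!
Lower bounds on the order of a subgroup of a presented group from base points and orbits.
-/

namespace Cfsg.Agent.CosetCert

namespace Data

variable {D : Data}

section main

variable {β : Type*} [DecidableEq β] {rels : Set (FreeGroup β)} {Sg : List (FreeGroup β)}
  {enc : β → Nat} {dec : Nat → β × Bool} {RL : List (List (β × Bool))}

theorem lower_bound_sub (h : D.Valid) (S : Spells D rels Sg enc dec RL)
    (φ : PresentedGroup rels →* Equiv.Perm (Fin D.n))
    (hfwd : ∀ (l : List (β × Bool)) (c : Fin D.n),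
      (((φ (PresentedGroup.mk rels (FreeGroup.mk l)))⁻¹ c : Fin D.n) : Nat) =
        D.fwd (l.map (code D.iv enc)) c)
    (X : Subgroup (PresentedGroup rels)) [Finite X] (allowed : List Nat)
    (hX : ∀ x ∈ allowed, PresentedGroup.mk rels (FreeGroup.mk [dec x]) ∈ X)
    (levels : List Level) (hok : D.LevelsOK [] levels)
    (hlet : ∀ L ∈ levels, ∀ w ∈ L.gens, ∀ x ∈ w, x ∈ allowed) :
    (levels.map Level.size).prod ≤ Nat.card X := by
  classical
  let A : List Nat → Subgroup (Equiv.Perm (Fin D.n)) := fun bs =>
    { carrier := {σ | σ ∈ X.map φ ∧ ∀ c : Fin D.n, (c : Nat) ∈ bs → σ c = c}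
      one_mem' := ⟨one_mem _, fun _ _ => rfl⟩
      mul_mem' := fun {a b} ha hb => ⟨mul_mem ha.1 hb.1, fun c hc => by
        rw [Equiv.Perm.mul_apply, hb.2 c hc, ha.2 c hc]⟩
      inv_mem' := fun {a} ha => ⟨inv_mem ha.1, fun c hc => by
        rw [Equiv.Perm.inv_eq_iff_eq, ha.2 c hc]⟩ }
  have hmem : ∀ w : List Nat, (∀ x ∈ w, x ∈ allowed) →
      PresentedGroup.mk rels (FreeGroup.mk (w.map dec)) ∈ X := by
    intro w
    induction w with
    | nil => exact fun _ => X.one_mem
    | cons x w ihw =>
      intro hw
      rw [List.map_cons, ← List.singleton_append, ← FreeGroup.mul_mk, map_mul]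
      exact X.mul_mem (hX x (hw x List.mem_cons_self))
        (ihw fun y hy => hw y (List.mem_cons_of_mem _ hy))
  suffices key : ∀ (bs : List Nat) (ls : List Level), D.LevelsOK bs ls →
      (∀ L ∈ ls, ∀ w ∈ L.gens, ∀ x ∈ w, x ∈ allowed) →
      (ls.map Level.size).prod ≤ Nat.card (A bs) by
    refine ((key [] levels hok hlet).trans
      (Subgroup.card_le_of_le (fun σ hσ => hσ.1 : A [] ≤ X.map φ))).trans ?_
    exact Nat.card_le_card_of_surjective (φ.subgroupMap X) (φ.subgroupMap_surjective X)
  intro bs ls
  induction ls generalizing bs with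
  | nil =>
    intro _ _
    have : 0 < Nat.card (A bs) := Nat.card_pos
    simp only [List.map_nil, List.prod_nil]
    omega
  | cons L rest ih =>
    rintro ⟨⟨hb, hg, hp⟩, hrest⟩ hls
    let b : Fin D.n := ⟨L.base, hb⟩
    -- the words of the level lie in `A bs`
    have hword : ∀ w ∈ L.gens, ∃ σ ∈ A bs, ∀ c : Fin D.n, ((σ c : Fin D.n) : Nat) = D.fwd w c := by
      intro w hw
      have h1 := List.all_eq_true.1 hg w hw
      rw [Bool.and_eq_true] at h1
      obtain ⟨h1, h2⟩ := h1
      have hcode : (w.map dec).map (code D.iv enc) = w := by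
        rw [List.map_map]
        conv_rhs => rw [← List.map_id w]
        exact List.map_congr_left fun x hx =>
          S.code_dec x (Nat.ble_eq.mp (List.all_eq_true.1 h1 x hx))
      have happ : ∀ c : Fin D.n,
          (((φ (PresentedGroup.mk rels (FreeGroup.mk (w.map dec))))⁻¹ c : Fin D.n) : Nat) =
            D.fwd w c := fun c => by rw [hfwd, hcode]
      refine ⟨_, ⟨inv_mem (Subgroup.mem_map_of_mem φ
        (hmem w (hls L List.mem_cons_self w hw))), fun c hc => Fin.ext ?_⟩, happ⟩
      rw [happ c]
      exact Nat.eq_of_beq_eq_true (List.all_eq_true.1 h2 _ hc)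
    let pt : Nat → Nat := fun j => L.pts j / 1099511627776
    have hspec : ∀ j, j < L.size → pt j < D.n ∧ L.pos (pt j) = j ∧ (j = 0 → pt j = L.base) ∧
        (j ≠ 0 → ∃ par, par < j ∧ ∃ w ∈ L.gens, D.fwd w (pt par) = pt j) := by
      intro j hj
      have h1 := hp j hj
      simp only [checkPoint, force_eq, gate_eq, Bool.and_eq_true] at h1
      obtain ⟨hpos, hlt, h1⟩ := h1
      refine ⟨Nat.ble_eq.mp hlt, Nat.eq_of_beq_eq_true hpos, ?_, ?_⟩
      · rintro rfl
        exact Nat.eq_of_beq_eq_true h1
      · intro hj0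
        have : Nat.beq j 0 = false := by
          cases hbb : Nat.beq j 0
          · rfl
          · exact absurd (Nat.eq_of_beq_eq_true hbb) hj0
        rw [this] at h1
        simp only [Bool.and_eq_true] at h1
        obtain ⟨hpar, hgl, hT⟩ := h1
        refine ⟨_, Nat.ble_eq.mp hpar, _, ?_, Nat.eq_of_beq_eq_true hT⟩
        rw [word_eq, List.getD_eq_getElem _ _ (Nat.ble_eq.mp hgl)]
        exact List.getElem_mem _
    have horb : ∀ j (hj : j < L.size),
        (⟨pt j, (hspec j hj).1⟩ : Fin D.n) ∈ MulAction.orbit (A bs) b := by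
      intro j
      induction j using Nat.strong_induction_on with
      | _ j ihj =>
        intro hj
        rcases eq_or_ne j 0 with rfl | hj0
        · have : (⟨pt 0, (hspec 0 hj).1⟩ : Fin D.n) = b := Fin.ext ((hspec 0 hj).2.2.1 rfl)
          rw [this]; exact MulAction.mem_orbit_self _
        · obtain ⟨par, hpar, w, hw, hT⟩ := (hspec j hj).2.2.2 hj0
          obtain ⟨σ, hσ, happ⟩ := hword w hw
          have hprev := ihj par hpar (hpar.trans hj)
          have : (⟨pt j, (hspec j hj).1⟩ : Fin D.n) =
              (⟨σ, hσ⟩ : A bs) • (⟨pt par, (hspec par (hpar.trans hj)).1⟩ : Fin D.n) := by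
            apply Fin.ext
            show pt j = ((σ _ : Fin D.n) : Nat)
            rw [happ]; exact hT.symm
          rw [this]
          exact MulAction.mem_orbit_of_mem_orbit _ hprev
    have hcard : L.size ≤ (MulAction.orbit (A bs) b).ncard := by
      have hinj : Function.Injective fun j : Fin L.size =>
          (⟨pt j, (hspec j j.2).1⟩ : Fin D.n) := by
        intro i j hij
        have : pt i = pt j := congrArg Fin.val hij
        apply Fin.ext
        rw [← (hspec i i.2).2.1, ← (hspec j j.2).2.1, this]
      calc L.size = (Set.range fun j : Fin L.size =>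
            (⟨pt j, (hspec j j.2).1⟩ : Fin D.n)).ncard := by
            rw [← Nat.card_coe_set_eq, Nat.card_range_of_injective hinj, Nat.card_fin]
        _ ≤ _ := Set.ncard_le_ncard (by rintro _ ⟨j, rfl⟩; exact horb j j.2) (Set.toFinite _)
    have hstab : Nat.card (A (bs ++ [L.base])) = Nat.card (MulAction.stabilizer (A bs) b) := by
      refine Nat.card_congr
        { toFun := fun σ => ⟨⟨σ.1, σ.2.1, fun c hc => σ.2.2 c (List.mem_append_left _ hc)⟩,
            σ.2.2 b (List.mem_append_right _ (List.mem_singleton.2 rfl))⟩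
          invFun := fun σ => ⟨σ.1.1, σ.1.2.1, fun c hc => ?_⟩
          left_inv := fun _ => rfl
          right_inv := fun _ => rfl }
      rcases List.mem_append.1 hc with hc | hc
      · exact σ.1.2.2 c hc
      · have : c = b := Fin.ext (List.mem_singleton.1 hc)
        rw [this]; exact σ.2
    rw [List.map_cons, List.prod_cons]
    calc L.size * (rest.map Level.size).prod
        ≤ (MulAction.orbit (A bs) b).ncard * Nat.card (A (bs ++ [L.base])) :=
          Nat.mul_le_mul hcard (ih _ hrest fun L' hL' => hls L' (List.mem_cons_of_mem _ hL'))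
      _ = Nat.card (A bs) := by
          rw [hstab, ← MulAction.index_stabilizer, mul_comm, Subgroup.card_mul_index]

end main

end Data

end Cfsg.Agent.CosetCert
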