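import Cfsg.Agent.CosetCert.Simple

/-!
Covering and counting for suborbit lists by bit operations on the whole sets.
-/

namespace Cfsg.Agent.CosetCert.Data

theorem count_or_add_and (a b : Nat) : ∀ n,
    count (a ||| b) n + count (a &&& b) n = count a n + count b n
  | 0 => rfl
  | n + 1 => by
    have ih := count_or_add_and a b n
    show cond ((a ||| b).testBit n) (count (a ||| b) n + 1) (count (a ||| b) n) +
      cond ((a &&& b).testBit n) (count (a &&& b) n + 1) (count (a &&& b) n) =
      cond (a.testBit n) (count a n + 1) (count a n) +
        cond (b.testBit n) (count b n + 1) (count b n)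
    rw [Nat.testBit_or, Nat.testBit_and]
    cases a.testBit n <;> cases b.testBit n <;>
      simp only [Bool.or_true, Bool.or_false, Bool.and_true, Bool.and_false, cond_true,
        cond_false] <;> omega

theorem count_zero_set : ∀ n, count 0 n = 0
  | 0 => rfl
  | n + 1 => by
    show cond ((0 : Nat).testBit n) (count 0 n + 1) (count 0 n) = 0
    rw [Nat.zero_testBit, count_zero_set n]; rfl

theorem count_one_set : ∀ n, 0 < n → count 1 n = 1
  | 1, _ => rfl
  | n + 2, _ => by
    show cond ((1 : Nat).testBit (n + 1)) (count 1 (n + 1) + 1) (count 1 (n + 1)) = 1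
    rw [Nat.testBit_succ, show (1 : Nat) / 2 = 0 from rfl, Nat.zero_testBit,
      count_one_set (n + 1) (by omega)]
    rfl

/-- The sums of `1` and some of the numbers, in the order of `unions`. -/
def sumsOf : List Nat → List Nat
  | [] => [1]
  | c :: t => sumsOf t ++ (sumsOf t).map fun u => u + c

/-- Every set is disjoint from the unions of the later ones. -/
def disjCheck : List Orb → Bool
  | [] => true
  | o :: t => (unions t).all (fun u => Nat.beq (Nat.land u o.set) 0) && disjCheck t

theorem count_unions {n : Nat} (hn : 0 < n) : ∀ {os : List Orb} {cs : List Nat},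
    disjCheck os = true → os.map (fun o => count o.set n) = cs →
      (unions os).map (fun u => count u n) = sumsOf cs := by
  intro os
  induction os with
  | nil =>
    rintro cs - rfl
    simp [unions, sumsOf, count_one_set n hn]
  | cons o t ih =>
    rintro cs hd rfl
    simp only [disjCheck, Bool.and_eq_true] at hd
    simp only [unions, List.map_cons, sumsOf, List.map_append, List.map_map]
    rw [← ih hd.2 rfl, List.map_map]
    refine congrArg₂ _ rfl (List.map_congr_left fun u hu => ?_)
    have h1 : u &&& o.set = 0 := Nat.eq_of_beq_eq_true (List.all_eq_true.1 hd.1 u hu)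
    have h2 := count_or_add_and u o.set n
    rw [h1, count_zero_set] at h2
    simpa using h2

theorem cover_of_or {n : Nat} {os : List Orb}
    (h : Nat.beq (os.foldr (fun o u => Nat.lor o.set u) 1) (2 ^ n - 1) = true) :
    ∀ c, c < n → c = 0 ∨ ∃ o ∈ os, o.set.testBit c = true := by
  intro c hc
  have h1 : (os.foldr (fun o u => Nat.lor o.set u) 1).testBit c = true := by
    rw [Nat.eq_of_beq_eq_true h, Nat.testBit_two_pow_sub_one]
    exact decide_eq_true hc
  clear h hc
  induction os with
  | nil =>
    left
    cases c with
    | zero => rfl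
    | succ c => simp [Nat.testBit_succ] at h1
  | cons o t ih =>
    change (o.set ||| t.foldr (fun o u => Nat.lor o.set u) 1).testBit c = true at h1
    rw [Nat.testBit_or, Bool.or_eq_true] at h1
    rcases h1 with h1 | h1
    · exact Or.inr ⟨o, List.mem_cons_self .., h1⟩
    · rcases ih h1 with h2 | ⟨o', ho', h2⟩
      · exact Or.inl h2
      · exact Or.inr ⟨o', List.mem_cons_of_mem _ ho', h2⟩

theorem arith_of_sums {n : Nat} (hn : 0 < n) {os : List Orb} {cs : List Nat}
    (hd : disjCheck os = true) (hc : os.map (fun o => count o.set n) = cs)
    (h : (sumsOf cs).all (fun v => decide (v ∣ n → v = 1 ∨ v = n)) = true) :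
    ∀ u ∈ unions os, count u n ∣ n → count u n = 1 ∨ count u n = n := by
  intro u hu
  have : count u n ∈ sumsOf cs := count_unions hn hd hc ▸ List.mem_map_of_mem hu
  exact of_decide_eq_true (List.all_eq_true.1 h _ this)

end Cfsg.Agent.CosetCert.Data
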