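import Cfsg.Agent.CosetCert.PowerCheck

/-!
Relation checks for tables of involutions stored by rows: all braid and commutation relations at
a point are read from the rows of its neighbours.
-/

namespace Cfsg.Agent.CosetCert

/-- The `x`th entry of a row of entries of 43 bits. -/
noncomputable def entry (r x : Nat) : Nat :=
  Nat.mod (Nat.shiftRight r (Nat.mul 43 x)) 8796093022208

/-- The target of the `x`th entry. -/
noncomputable def tgt (r x : Nat) : Nat := Nat.mod (Nat.shiftRight r (Nat.mul 43 x)) 1048576

theorem entry_mod (r x : Nat) : Nat.mod (entry r x) 1048576 = tgt r x :=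
  Nat.mod_mod_of_dvd _ (by norm_num : 1048576 ∣ 8796093022208)

/-- The row table as a table of edges. -/
noncomputable def rowEdge (K : Nat) (R : Nat → Nat) (i : Nat) : Nat :=
  entry (R (Nat.div i K)) (Nat.mod i K)

/-- Pass the list of neighbours' rows to `k`. -/
noncomputable def gather (R : Nat → Nat) (rc : Nat) (xs : List Nat) :
    (List (Nat × Nat) → Bool) → Bool :=
  List.rec (fun k => k []) (fun x _ ih k => force (R (tgt rc x)) fun r => ih fun l => k ((x, r) :: l)) xs

theorem gather_eq (R : Nat → Nat) (rc : Nat) : ∀ (xs : List Nat) (k : List (Nat × Nat) → Bool),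
    gather R rc xs k = k (xs.map fun x => (x, R (tgt rc x))) := by
  intro xs
  induction xs with
  | nil => intro k; rfl
  | cons x t ih =>
    intro k
    show force (R (tgt rc x)) (fun r => gather R rc t fun l => k ((x, r) :: l)) = _
    rw [force_eq, ih]
    rfl

/-- Is `x, y` a braid pair? -/
noncomputable def braidBit (B K x y : Nat) : Bool :=
  Nat.beq (Nat.land (Nat.shiftRight B (Nat.add (Nat.mul x K) y)) 1) 1

/-- One pair of letters, with the rows of the neighbours along them. -/
noncomputable def pairTest (R : Nat → Nat) (B K x rx y ry : Nat) : Bool :=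
  force (tgt rx y) fun a => force (tgt ry x) fun b =>
    Bool.rec (motive := fun _ => Bool) (Nat.beq a b) (Nat.beq (tgt (R a) x) (tgt (R b) y))
      (braidBit B K x y)

/-- All pairs from a list of neighbours' rows. -/
noncomputable def triangle (R : Nat → Nat) (B K : Nat) (l : List (Nat × Nat)) : Bool :=
  List.rec true (fun a t ih => gate
    (List.rec true (fun b _ ih => gate (pairTest R B K a.1 a.2 b.1 b.2) ih) t) ih) l

theorem triangle_spec (R : Nat → Nat) (B K : Nat) (f : Nat → Nat) : ∀ {l : List Nat},
    l.Pairwise (· < ·) → triangle R B K (l.map fun x => (x, f x)) = true →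
      ∀ x ∈ l, ∀ y ∈ l, x < y → pairTest R B K x (f x) y (f y) = true := by
  intro l
  induction l with
  | nil => intro _ _ x hx; exact absurd hx List.not_mem_nil
  | cons a t ih =>
    intro hl h x hx y hy hxy
    obtain ⟨hat, ht⟩ := List.pairwise_cons.1 hl
    have h' : gate (List.rec true (fun b _ ih => gate (pairTest R B K a (f a) b.1 b.2) ih)
        (t.map fun x => (x, f x))) (triangle R B K (t.map fun x => (x, f x))) = true := h
    rw [gate_eq, Bool.and_eq_true] at h'
    obtain ⟨h1, h2⟩ := h'
    rcases List.mem_cons.1 hx with rfl | hx'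
    · have hy' : y ∈ t := (List.mem_cons.1 hy).resolve_left (Nat.ne_of_gt hxy)
      clear ih h h2 hl hat ht hy hx
      induction t with
      | nil => exact absurd hy' List.not_mem_nil
      | cons b s ihs =>
        have h1' : gate (pairTest R B K x (f x) b (f b))
            (List.rec true (fun b _ ih => gate (pairTest R B K x (f x) b.1 b.2) ih)
              (s.map fun x => (x, f x))) = true := h1
        rw [gate_eq, Bool.and_eq_true] at h1'
        rcases List.mem_cons.1 hy' with rfl | hy'
        · exact h1'.1
        · exact ihs h1'.2 hy'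
    · rcases List.mem_cons.1 hy with rfl | hy
      · exact absurd (hat x hx') (Nat.not_lt.2 hxy.le)
      · exact ih ht h2 x hx' y hy hxy

namespace Data

variable (D : Data)

/-- All pairs of letters at `c`. -/
noncomputable def checkPairs (R : Nat → Nat) (B : Nat) (xs : List Nat) (c : Nat) : Bool :=
  force (R c) fun rc => gather R rc xs (triangle R B D.K)

/-- A power word that the row checks cover. -/
noncomputable def covered (B : Nat) : List Nat × Nat → Bool
  | ([], _) => true
  | ([x], m) => Nat.beq m 2 && Nat.blt x D.K
  | ([x, y], m) => Nat.blt x y && (Nat.blt y D.K &&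
      Nat.beq m (cond (braidBit B D.K x y) 3 2))
  | _ => false

/-- At `c`: the letter `l` followed by the `e`th power of the stored word fixes `c`. -/
noncomputable def checkTail (w : List Nat) (Z : Nat → Nat) (e l c : Nat) : Bool :=
  force (Z c) fun d => gate (Nat.beq (D.fwd w c) d) (gate (Nat.blt d D.n)
    (force (D.T c l) fun t => gate (Nat.blt t D.n) (Nat.beq (iter Z e t) c)))

variable {D}

theorem fwd_tail (w : List Nat) (Z : Nat → Nat) (e l : Nat)
    (h : ∀ c, c < D.n → D.checkTail w Z e l c = true) :
    ∀ c, c < D.n → D.fwd (l :: (List.replicate e w).flatten) c = c := by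
  have hstep : ∀ c, c < D.n →
      D.fwd w c = Z c ∧ Z c < D.n ∧ D.T c l < D.n ∧ iter Z e (D.T c l) = c := by
    intro c hc
    have h1 := h c hc
    simp only [checkTail, force_eq, gate_eq, Bool.and_eq_true] at h1
    exact ⟨Nat.eq_of_beq_eq_true h1.1, Nat.ble_eq.mp h1.2.1, Nat.ble_eq.mp h1.2.2.1,
      Nat.eq_of_beq_eq_true h1.2.2.2⟩
  have key : ∀ k c, c < D.n → D.fwd ((List.replicate k w).flatten) c = iter Z k c := by
    intro k
    induction k with
    | zero => intro c _; rfl
    | succ k ih =>
      intro c hc
      obtain ⟨h1, h2, -⟩ := hstep c hc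
      rw [List.replicate_succ, List.flatten_cons, Data.fwd_append, h1, ih _ h2]
      show iter Z k (Z c) = force (Z c) (iter Z k)
      rw [force_eq]
  intro c hc
  rw [fwd_cons, key e _ (hstep c hc).2.2.1, (hstep c hc).2.2.2]

theorem closes_of_iterate {u : List Nat} {c : Nat} : ∀ {m d : Nat},
    (D.fwd u)^[m] d = c → D.closes u c m d = true := by
  intro m
  induction m with
  | zero => intro d h; simp only [Function.iterate_zero, id] at h; subst h; exact Nat.beq_refl _
  | succ m ih =>
    intro d h
    show force (D.fwd u d) (fun d' =>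
      Bool.rec (motive := fun _ => Bool) (D.closes u c m d') true (Nat.blt d' c)) = true
    rw [force_eq]
    cases Nat.blt (D.fwd u d) c
    · exact ih (by rwa [Function.iterate_succ_apply] at h)
    · rfl

theorem rels_of_rows (R : Nat → Nat) (B : Nat)
    (hT : ∀ c x, x < D.K → D.T c x = tgt (R c) x)
    (hedge : ∀ c x, c < D.n → x < D.K → D.T c x < D.n ∧ D.T (D.T c x) x = c)
    (hpairs : ∀ c, c < D.n → D.checkPairs R B (List.range D.K) c = true)
    (hpow : ∀ p ∈ D.powers, D.covered B p = true ∨
      ∀ c, c < D.n → (D.fwd p.1)^[p.2] c = c) :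
    ∀ c, c < D.n → D.checkRels c = true := by
  intro c hc
  have hpair : ∀ c, c < D.n → ∀ x y, x < y → y < D.K →
      (braidBit B D.K x y = false → D.T (D.T c x) y = D.T (D.T c y) x) ∧
        (braidBit B D.K x y = true →
          D.T (D.T (D.T c x) y) x = D.T (D.T (D.T c y) x) y) := by
    intro c hc x y hxy hy
    have hx : x < D.K := lt_trans hxy hy
    have h1 := hpairs c hc
    rw [checkPairs, force_eq, gather_eq] at h1
    have h2 := triangle_spec R B D.K (fun z => R (tgt (R c) z)) List.pairwise_lt_range h1 x
      (List.mem_range.2 hx) y (List.mem_range.2 hy) hxy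
    simp only [pairTest, force_eq] at h2
    simp only [hT _ _ hx, hT _ _ hy]
    constructor <;> intro hb <;> rw [hb] at h2 <;> exact Nat.eq_of_beq_eq_true h2
  have main : ∀ p ∈ D.powers, (D.fwd p.1)^[p.2] c = c := by
    intro p hp
    rcases hpow p hp with hcov | h
    · obtain ⟨u, m⟩ := p
      match u, hcov with
      | [], _ => exact Function.iterate_fixed rfl _
      | [x], h =>
        simp only [covered, Bool.and_eq_true] at h
        obtain ⟨hm, hx⟩ := h
        obtain rfl : m = 2 := Nat.eq_of_beq_eq_true hm
        simpa using (hedge c x hc (Nat.ble_eq.mp hx)).2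
      | [x, y], h =>
        simp only [covered, Bool.and_eq_true] at h
        obtain ⟨hxy', hy', hm'⟩ := h
        have hxy : x < y := Nat.ble_eq.mp hxy'
        have hy : y < D.K := Nat.ble_eq.mp hy'
        have hx : x < D.K := lt_trans hxy hy
        have hm := Nat.eq_of_beq_eq_true hm'
        obtain ⟨hcomm, hbraid⟩ := hpair c hc x y hxy hy
        cases hb : braidBit B D.K x y <;> rw [hb] at hm <;> simp only [cond] at hm <;> subst hm
        · have e := hcomm hb
          show D.fwd [x, y] (D.fwd [x, y] c) = c
          simp only [fwd_cons, fwd_nil]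
          have h1 := (hedge c x hc hx)
          have h2 := (hedge c y hc hy)
          have h3 := hedge _ y h1.1 hy
          have h4 := hedge _ x h2.1 hx
          rw [e, h4.2, h2.2]
        · have e := hbraid hb
          show D.fwd [x, y] (D.fwd [x, y] (D.fwd [x, y] c)) = c
          simp only [fwd_cons, fwd_nil]
          have h2 := (hedge c y hc hy)
          have h4 := hedge _ x h2.1 hx
          have h5 := hedge _ y h4.1 hy
          rw [e, h5.2, h4.2, h2.2]
    · exact h c hc
  unfold checkRels
  generalize D.powers = L at main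
  induction L with
  | nil => rfl
  | cons p L ih =>
    show gate (D.closes p.1 c p.2 c) _ = true
    rw [gate_eq, Bool.and_eq_true]
    exact ⟨closes_of_iterate (main p (List.mem_cons_self ..)),
      ih fun q hq => main q (List.mem_cons_of_mem _ hq)⟩

theorem T_rowEdge (R : Nat → Nat) (hE : D.E = rowEdge D.K R) (c x : Nat) (hx : x < D.K) :
    D.T c x = tgt (R c) x := by
  show Nat.mod (D.E (Nat.add (Nat.mul c D.K) x)) 1048576 = _
  rw [hE, rowEdge]
  show Nat.mod (entry (R ((c * D.K + x) / D.K)) ((c * D.K + x) % D.K)) 1048576 = _
  rw [entry_mod, Nat.mul_comm c, Nat.mul_add_div (by omega), Nat.div_eq_of_lt hx,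
    Nat.mul_add_mod, Nat.mod_eq_of_lt hx, Nat.add_zero]

end Data

end Cfsg.Agent.CosetCert
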